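/-
Sylow 2-subgroups of symmetric and alternating groups are their own normalizers.

* `normalizer_sylow_perm` : in every finite symmetric group
* `normalizer_sylow_alt` : in `A_n` for `n ≥ 6`
-/
import Cfsg.Agent.EqLemmas
import Mathlib.GroupTheory.Sylow
import Mathlib.GroupTheory.SpecificGroups.Alternating
import Mathlib.NumberTheory.Padics.PadicVal.Basic

set_option autoImplicit false

namespace Cfsg.Agent.AltSelfNorm

open Equiv Equiv.Perm
open scoped Pointwise

variable {ι ε : Type} [Fintype ι] [DecidableEq ι] [Fintype ε] [DecidableEq ε] [Subsingleton ε]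

/-- The pairs, and at most one further point. -/
abbrev Pts (ι ε : Type) : Type := (ι × Bool) ⊕ ε

/-- The standard pairing. -/
def pairing : Perm (Pts ι ε) where
  toFun x := match x with | .inl (i, b) => .inl (i, !b) | .inr e => .inr e
  invFun x := match x with | .inl (i, b) => .inl (i, !b) | .inr e => .inr e
  left_inv x := by rcases x with ⟨i, b⟩ | e <;> simp
  right_inv x := by rcases x with ⟨i, b⟩ | e <;> simp

@[simp] theorem pairing_inl (i : ι) (b : Bool) : (pairing : Perm (Pts ι ε)) (.inl (i, b)) = .inl (i, !b) := rfl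
@[simp] theorem pairing_inr (e : ε) : (pairing : Perm (Pts ι ε)) (.inr e) = .inr e := rfl

variable (ι ε) in
/-- The centralizer of the standard pairing. -/
def cent : Subgroup (Perm (Pts ι ε)) := Subgroup.centralizer {pairing}

theorem cent_comm {g : Perm (Pts ι ε)} (hg : g ∈ cent ι ε) (x : Pts ι ε) : g (pairing x) = pairing (g x) := by
  rw [← mul_apply, Subgroup.mem_centralizer_singleton_iff.1 hg, mul_apply]

theorem mem_cent_of {g : Perm (Pts ι ε)} (h : ∀ x, g (pairing x) = pairing (g x)) : g ∈ cent ι ε :=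
  Subgroup.mem_centralizer_singleton_iff.2 (Equiv.ext h)

theorem pairing_eq_self {x : Pts ι ε} : pairing x = x ↔ ∃ e, x = .inr e := by
  rcases x with ⟨i, b⟩ | e <;> simp

theorem cent_inr {g : Perm (Pts ι ε)} (hg : g ∈ cent ι ε) (e : ε) : g (.inr e) = .inr e := by
  obtain ⟨e', h⟩ := (pairing_eq_self (x := g (.inr e))).1 (by rw [← cent_comm hg, pairing_inr])
  rw [h, Subsingleton.elim e' e]

theorem cent_inl {g : Perm (Pts ι ε)} (hg : g ∈ cent ι ε) (i : ι) (b : Bool) :
    ∃ j c, g (.inl (i, b)) = .inl (j, c) ∧ g (.inl (i, !b)) = .inl (j, !c) := by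
  rcases h : g (.inl (i, b)) with ⟨j, c⟩ | e
  · exact ⟨j, c, rfl, by rw [← pairing_inl, cent_comm hg, h, pairing_inl]⟩
  · exact absurd (g.injective (h.trans (cent_inr hg e).symm)) (by simp)

/-- The induced map on the pairs. -/
def onPairs (g : Perm (Pts ι ε)) (i : ι) : ι :=
  match g (.inl (i, false)) with | .inl (j, _) => j | .inr _ => i

theorem onPairs_spec {g : Perm (Pts ι ε)} (hg : g ∈ cent ι ε) (i : ι) (b : Bool) :
    ∃ c, g (.inl (i, b)) = .inl (onPairs g i, c) := by
  obtain ⟨j, c, h1, h2⟩ := cent_inl hg i false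
  have hj : onPairs g i = j := by simp only [onPairs, h1]
  rw [hj]
  cases b
  · exact ⟨c, h1⟩
  · exact ⟨!c, h2⟩

theorem onPairs_mul {g h : Perm (Pts ι ε)} (hg : g ∈ cent ι ε) (hh : h ∈ cent ι ε) (i : ι) :
    onPairs (g * h) i = onPairs g (onPairs h i) := by
  obtain ⟨c, h1⟩ := onPairs_spec hh i false
  obtain ⟨d, h2⟩ := onPairs_spec hg (onPairs h i) c
  have h3 : (g * h) (.inl (i, false)) = .inl (onPairs g (onPairs h i), d) := by rw [mul_apply, h1, h2]
  obtain ⟨e, h4⟩ := onPairs_spec (mul_mem hg hh) i false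
  rw [h3] at h4
  exact (congrArg Prod.fst (Sum.inl.inj h4)).symm

variable (ι ε) in
/-- The action on the pairs. -/
def pairHom : cent ι ε →* Perm ι where
  toFun g :=
    { toFun := onPairs (g : Perm (Pts ι ε))
      invFun := onPairs ((g⁻¹ : cent ι ε) : Perm (Pts ι ε))
      left_inv := fun i => by
        rw [← onPairs_mul (g⁻¹).2 g.2, InvMemClass.coe_inv, inv_mul_cancel]; rfl
      right_inv := fun i => by
        rw [← onPairs_mul g.2 (g⁻¹).2, InvMemClass.coe_inv, mul_inv_cancel]; rfl }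
  map_one' := Equiv.ext fun i => rfl
  map_mul' g h := Equiv.ext fun i => onPairs_mul g.2 h.2 i

theorem pairHom_apply (g : cent ι ε) (i : ι) : pairHom ι ε g i = onPairs (g : Perm (Pts ι ε)) i := rfl

theorem pairHom_surjective : Function.Surjective (pairHom ι ε) := fun σ => by
  refine ⟨⟨Equiv.sumCongr (Equiv.prodCongr σ (Equiv.refl Bool)) (Equiv.refl ε), mem_cent_of fun x => ?_⟩,
    Equiv.ext fun i => rfl⟩
  rcases x with ⟨i, b⟩ | e <;> rfl

theorem ker_apply {g : cent ι ε} (hg : g ∈ (pairHom ι ε).ker) (i : ι) (b : Bool) :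
    ∃ c, (g : Perm (Pts ι ε)) (.inl (i, b)) = .inl (i, c) := by
  obtain ⟨c, h⟩ := onPairs_spec g.2 i b
  rw [← pairHom_apply g i, MonoidHom.mem_ker.1 hg, one_apply] at h
  exact ⟨c, h⟩

theorem ker_sq {g : cent ι ε} (hg : g ∈ (pairHom ι ε).ker) : g ^ 2 = 1 := by
  refine Subtype.ext (Equiv.ext fun x => ?_)
  rw [SubmonoidClass.coe_pow, sq, mul_apply, OneMemClass.coe_one, one_apply]
  rcases x with ⟨i, b⟩ | e
  · obtain ⟨c, hc⟩ := ker_apply hg i b
    rw [hc]
    by_cases hcb : c = b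
    · subst hcb; exact hc
    · have hcb' : c = !b := by cases b <;> cases c <;> simp_all
      subst hcb'
      rw [← pairing_inl, cent_comm g.2, hc, pairing_inl, Bool.not_not]
  · rw [cent_inr g.2, cent_inr g.2]

/-- The transposition of one pair. -/
def pairSwap (i : ι) : Perm (Pts ι ε) := Equiv.swap (.inl (i, false)) (.inl (i, true))

theorem pairSwap_inl (i j : ι) (b : Bool) :
    (pairSwap i : Perm (Pts ι ε)) (.inl (j, b)) = .inl (j, if j = i then !b else b) := by
  by_cases h : j = i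
  · subst h
    cases b
    · simp [pairSwap]
    · simp [pairSwap]
  · rw [if_neg h, pairSwap, Equiv.swap_apply_of_ne_of_ne (by simp [h]) (by simp [h])]

theorem pairSwap_inr (i : ι) (e : ε) : (pairSwap i : Perm (Pts ι ε)) (.inr e) = .inr e := by
  rw [pairSwap, Equiv.swap_apply_of_ne_of_ne (by simp) (by simp)]

theorem sign_pairSwap (i : ι) : sign (pairSwap i : Perm (Pts ι ε)) = -1 :=
  Equiv.Perm.sign_swap (by simp)

theorem pairSwap_mem (i : ι) : (pairSwap i : Perm (Pts ι ε)) ∈ cent ι ε := by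
  refine mem_cent_of fun x => ?_
  rcases x with ⟨j, b⟩ | e
  · by_cases h : j = i <;> simp [pairSwap_inl, h]
  · simp [pairSwap_inr]

theorem pairSwap_ker (i : ι) : (⟨pairSwap i, pairSwap_mem i⟩ : cent ι ε) ∈ (pairHom ι ε).ker := by
  refine MonoidHom.mem_ker.2 (Equiv.ext fun j => ?_)
  rw [pairHom_apply, one_apply]
  simp only [onPairs, pairSwap_inl]

theorem card_ker : Nat.card (pairHom ι ε).ker = 2 ^ Fintype.card ι := by
  have he : Nat.card (ι → Bool) = 2 ^ Fintype.card ι := by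
    rw [Nat.card_eq_fintype_card, Fintype.card_fun, Fintype.card_bool]
  rw [← he]
  refine Nat.card_eq_of_bijective (fun g i => ((((g : cent ι ε) : Perm (Pts ι ε))) (.inl (i, false))).elim
    Prod.snd fun _ => false) ⟨fun g h hgh => ?_, fun c => ?_⟩
  · refine Subtype.ext (Subtype.ext (Equiv.ext fun x => ?_))
    have hfalse : ∀ i, ((g : cent ι ε) : Perm (Pts ι ε)) (.inl (i, false)) =
        ((h : cent ι ε) : Perm (Pts ι ε)) (.inl (i, false)) := by
      intro i
      obtain ⟨a, ha⟩ := ker_apply g.2 i false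
      obtain ⟨b, hb⟩ := ker_apply h.2 i false
      have := congrFun hgh i
      simp only [ha, hb, Sum.elim_inl] at this
      rw [ha, hb, this]
    rcases x with ⟨i, b⟩ | e
    · cases b
      · exact hfalse i
      · rw [show (Sum.inl (i, true) : Pts ι ε) = pairing (.inl (i, false)) from rfl, cent_comm (g : cent ι ε).2,
          cent_comm (h : cent ι ε).2, hfalse]
    · rw [cent_inr (g : cent ι ε).2, cent_inr (h : cent ι ε).2]
  · let σ : Perm (Pts ι ε) :=
      { toFun := fun x => match x with | .inl (i, b) => .inl (i, xor b (c i)) | .inr e => .inr e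
        invFun := fun x => match x with | .inl (i, b) => .inl (i, xor b (c i)) | .inr e => .inr e
        left_inv := fun x => by rcases x with ⟨i, b⟩ | e <;> simp
        right_inv := fun x => by rcases x with ⟨i, b⟩ | e <;> simp }
    refine ⟨⟨⟨σ, mem_cent_of fun x => ?_⟩, MonoidHom.mem_ker.2 (Equiv.ext fun i => rfl)⟩, funext fun i => ?_⟩
    · rcases x with ⟨i, b⟩ | e
      · cases b <;> cases h : c i <;> simp [σ, h]
      · rfl
    · simp [σ]

theorem factorial_two (m r : ℕ) (hr : r ≤ 1) :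
    padicValNat 2 (2 * m + r).factorial = m + padicValNat 2 m.factorial := by
  haveI : Fact (Nat.Prime 2) := ⟨Nat.prime_two⟩
  rw [padicValNat_factorial_mul_add (p := 2) m (by omega), padicValNat_factorial_mul, add_comm]

/-- The centralizer of the pairing contains a Sylow 2-subgroup. -/
theorem exists_sylow_le : ∃ T : Sylow 2 (Perm (Pts ι ε)), (T : Subgroup (Perm (Pts ι ε))) ≤ cent ι ε := by
  haveI : Fact (Nat.Prime 2) := ⟨Nat.prime_two⟩
  obtain ⟨R⟩ : Nonempty (Sylow 2 (cent ι ε)) := inferInstance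
  have hr : Fintype.card ε ≤ 1 := Fintype.card_le_one_iff_subsingleton.2 inferInstance
  have hcard : Nat.card ((R : Subgroup (cent ι ε)).map (cent ι ε).subtype) =
      2 ^ (Nat.card (Perm (Pts ι ε))).factorization 2 := by
    rw [Subgroup.card_subtype, R.card_eq_multiplicity, ← (pairHom ι ε).ker.card_mul_index,
      Subgroup.index_ker, MonoidHom.range_eq_top.2 pairHom_surjective, Subgroup.card_top, card_ker]
    congr 1
    rw [Nat.card_perm, Nat.card_perm, Nat.card_eq_fintype_card, Nat.card_eq_fintype_card, Fintype.card_sum,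
      Fintype.card_prod, Fintype.card_bool, Nat.factorization_mul (by positivity) (Nat.factorial_ne_zero _),
      Finsupp.add_apply, Nat.prime_two.factorization_pow, Finsupp.single_eq_same,
      Nat.factorization_def _ Nat.prime_two, Nat.factorization_def _ Nat.prime_two, mul_comm _ 2,
      factorial_two _ _ hr]
  exact ⟨Sylow.ofCard _ hcard, fun x hx => by
    obtain ⟨y, -, rfl⟩ := (show x ∈ (R : Subgroup (cent ι ε)).map (cent ι ε).subtype from hx)
    exact y.2⟩

/-- A conjugate of the pairing commuting with the transposition of a pair. -/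
theorem pairing_of_pair {g : Perm (Pts ι ε)}
    (h : ∀ (i : ι) (b : Bool), ∃ c, (g * (pairing : Perm (Pts ι ε)) * g⁻¹) (.inl (i, b)) = .inl (i, c)) : g ∈ cent ι ε := by
  set π := g * pairing * g⁻¹ with hπ
  have hfix : ∀ x y, π x = x → π y = y → x = y := by
    intro x y hx hy
    have hh : ∀ z, π z = z → ∃ e, g⁻¹ z = .inr e := fun z hz =>
      pairing_eq_self.1 (g.injective (by simpa [hπ, mul_apply] using hz))
    obtain ⟨e, he⟩ := hh x hx
    obtain ⟨e', he'⟩ := hh y hy
    exact g⁻¹.injective (by rw [he, he', Subsingleton.elim e e'])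
  have hsq : ∀ z, π (π z) = z := fun z => by
    have hflip : ∀ w : Pts ι ε, pairing (pairing w) = w := fun w => by rcases w with ⟨i, b⟩ | e <;> simp
    simp [hπ, mul_apply, hflip]
  have heq : π = pairing := by
    have hinl : ∀ i b, π (.inl (i, b)) = .inl (i, !b) := by
      intro i b
      obtain ⟨c, hc⟩ := h i b
      by_cases hcb : c = b
      · subst hcb
        obtain ⟨d, hd⟩ := h i (!c)
        by_cases hdc : d = c
        · subst hdc
          exact absurd (π.injective (hd.trans hc.symm)) (by simp)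
        · have hdc' : d = !c := by cases d <;> cases c <;> simp_all
          subst hdc'
          exact absurd (hfix _ _ hc hd) (by simp)
      · rw [hc]
        cases b <;> cases c <;> simp_all
    refine Equiv.ext fun x => ?_
    rcases x with ⟨i, b⟩ | e
    · rw [hinl, pairing_inl]
    · rcases hx : π (.inr e) with ⟨i, b⟩ | e'
      · have := hsq (.inr e)
        rw [hx, hinl] at this
        exact absurd this (by simp)
      · rw [pairing_inr, Subsingleton.elim e' e]
  refine Subgroup.mem_centralizer_singleton_iff.2 ?_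
  rw [hπ, mul_inv_eq_iff_eq_mul] at heq
  exact heq

variable {T : Sylow 2 (Perm (Pts ι ε))} (hT : (T : Subgroup (Perm (Pts ι ε))) ≤ cent ι ε)
include hT

theorem ker_le : ∀ g ∈ (pairHom ι ε).ker, (g : Perm (Pts ι ε)) ∈ T := by
  haveI : Fact (Nat.Prime 2) := ⟨Nat.prime_two⟩
  have h1 : IsPGroup 2 (pairHom ι ε).ker := fun g => ⟨1, Subtype.ext (by simpa using ker_sq g.2)⟩
  have h2 := IsPGroup.to_sup_of_normal_right (T.2.comap_subtype (K := cent ι ε)) h1
  have h3 := T.3 (h2.map (cent ι ε).subtype) (fun x hx =>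
    ⟨⟨x, hT hx⟩, Subgroup.mem_sup_left (show x ∈ (T : Subgroup (Perm (Pts ι ε))) from hx), rfl⟩)
  intro g hg
  exact h3.le ⟨g, Subgroup.mem_sup_right hg, rfl⟩

theorem pairSwap_mem_sylow (i : ι) : (pairSwap i : Perm (Pts ι ε)) ∈ T :=
  ker_le hT _ (pairSwap_ker i)

theorem self_norm_step (hι : ∀ R : Sylow 2 (Perm ι), ∀ σ : Perm ι, (∀ r ∈ R, σ * r * σ⁻¹ ∈ R) → σ ∈ R)
    {g : Perm (Pts ι ε)} (hgC : g ∈ cent ι ε)
    (h : ∀ p ∈ T, ∃ p' ∈ T, ∃ hp' : p' ∈ cent ι ε, ∃ hp : p ∈ cent ι ε,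
      pairHom ι ε ⟨p', hp'⟩ = pairHom ι ε ⟨p, hp⟩ ∧ g * p' * g⁻¹ ∈ T) : g ∈ T := by
  haveI : Fact (Nat.Prime 2) := ⟨Nat.prime_two⟩
  set R := (T.subtype hT).mapSurjective (pairHom_surjective (ι := ι) (ε := ε))
  have hmem : ∀ σ : Perm ι, σ ∈ R ↔ ∃ p, ∃ hp : p ∈ cent ι ε, p ∈ T ∧ pairHom ι ε ⟨p, hp⟩ = σ := by
    intro σ
    constructor
    · rintro ⟨p, hp, rfl⟩
      exact ⟨p, p.2, hp, rfl⟩
    · rintro ⟨p, hp, hpT, rfl⟩
      exact ⟨⟨p, hp⟩, hpT, rfl⟩
  have hσ : pairHom ι ε ⟨g, hgC⟩ ∈ R := by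
    refine hι R _ fun r hr => ?_
    obtain ⟨p, hp, hpT, rfl⟩ := (hmem r).1 hr
    obtain ⟨p', hp'T, hp', hp2, heq, hconj⟩ := h p hpT
    refine (hmem _).2 ⟨g * p' * g⁻¹, hT hconj, hconj, ?_⟩
    rw [← heq, ← map_inv, ← map_mul, ← map_mul]
    rfl
  obtain ⟨p, hp, hpT, hpeq⟩ := (hmem _).1 hσ
  have hk : (⟨p, hp⟩ : cent ι ε)⁻¹ * ⟨g, hgC⟩ ∈ (pairHom ι ε).ker := by
    rw [MonoidHom.mem_ker, map_mul, map_inv, hpeq, inv_mul_cancel]
  have := (T : Subgroup (Perm (Pts ι ε))).mul_mem hpT (ker_le hT _ hk)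
  show g ∈ (T : Subgroup (Perm (Pts ι ε)))
  simpa using this

theorem self_norm_sym (hι : ∀ R : Sylow 2 (Perm ι), ∀ σ : Perm ι, (∀ r ∈ R, σ * r * σ⁻¹ ∈ R) → σ ∈ R)
    {g : Perm (Pts ι ε)} (hg : ∀ p ∈ T, g * p * g⁻¹ ∈ T) : g ∈ T := by
  have hgC : g ∈ cent ι ε := by
    refine pairing_of_pair fun i b => ?_
    -- the conjugated pairing commutes with every element of `T`
    obtain ⟨p, hp, hpe⟩ : ∃ p ∈ T, g * p * g⁻¹ = pairSwap i := by
      have hmap : (T : Subgroup (Perm (Pts ι ε))).map (MulAut.conj g).toMonoidHom = T := by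
        refine Subgroup.eq_of_le_of_card_ge ?_ (le_of_eq ?_)
        · rintro _ ⟨p, hp, rfl⟩
          exact hg p hp
        · exact (Subgroup.card_map_of_injective (MulAut.conj g).injective).symm
      obtain ⟨p, hp, hpe⟩ := hmap.ge (pairSwap_mem_sylow hT i)
      exact ⟨p, hp, hpe⟩
    have hcomm : g * pairing * g⁻¹ * pairSwap i = pairSwap i * (g * pairing * g⁻¹) := by
      have h1 : p * pairing = pairing * p := Subgroup.mem_centralizer_singleton_iff.1 (hT hp)
      rw [← hpe]
      calc g * pairing * g⁻¹ * (g * p * g⁻¹) = g * (pairing * p) * g⁻¹ := by group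
        _ = g * p * g⁻¹ * (g * pairing * g⁻¹) := by rw [← h1]; group
    set π := g * pairing * g⁻¹
    have h2 := DFunLike.congr_fun hcomm (.inl (i, b))
    change π (pairSwap i (.inl (i, b))) = pairSwap i (π (.inl (i, b))) at h2
    rw [pairSwap_inl, if_pos rfl] at h2
    rcases hx : π (.inl (i, b)) with ⟨j, c⟩ | e
    · rcases hy : π (.inl (i, !b)) with ⟨k, d⟩ | e
      · rw [hx, hy, pairSwap_inl] at h2
        obtain ⟨rfl, hd⟩ := Prod.ext_iff.1 (Sum.inl.inj h2)
        by_cases hki : k = i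
        · exact ⟨c, by rw [hki]⟩
        · simp only [if_neg hki] at hd
          subst hd
          exact absurd (π.injective (hy.trans hx.symm)) (by simp)
      · rw [hx, hy, pairSwap_inl] at h2
        simp at h2
    · rw [hx, pairSwap_inr, ← hx] at h2
      exact absurd (π.injective h2) (by simp)
  exact self_norm_step hT hι hgC fun p hp => ⟨p, hp, hT hp, hT hp, rfl, hg p hp⟩

theorem self_norm_alt (hι : ∀ R : Sylow 2 (Perm ι), ∀ σ : Perm ι, (∀ r ∈ R, σ * r * σ⁻¹ ∈ R) → σ ∈ R)
    (h3 : 3 ≤ Fintype.card ι) {g : Perm (Pts ι ε)}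
    (hg : ∀ p ∈ T, sign p = 1 → g * p * g⁻¹ ∈ T) : g ∈ T := by
  have hsurj : ∀ q ∈ T, sign q = 1 → ∃ p ∈ T, g * p * g⁻¹ = q := by
    intro q hq hs
    set S := (T : Subgroup (Perm (Pts ι ε))) ⊓ alternatingGroup (Pts ι ε)
    have hmap : S.map (MulAut.conj g).toMonoidHom = S := by
      refine Subgroup.eq_of_le_of_card_ge ?_ (le_of_eq ?_)
      · rintro _ ⟨p, hp, rfl⟩
        refine ⟨hg p hp.1 hp.2, ?_⟩
        show sign (g * p * g⁻¹) = 1
        rw [map_mul, map_mul, show sign p = 1 from hp.2, mul_one, ← map_mul, mul_inv_cancel, map_one]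
      · exact (Subgroup.card_map_of_injective (MulAut.conj g).injective).symm
    obtain ⟨p, hp, hpe⟩ := hmap.ge (show q ∈ S from ⟨hq, hs⟩)
    exact ⟨p, hp.1, hpe⟩
  have hgC : g ∈ cent ι ε := by
    refine pairing_of_pair fun i b => ?_
    set π := g * pairing * g⁻¹ with hπ
    have hcomm : ∀ j, j ≠ i → π * (pairSwap i * pairSwap j) = pairSwap i * pairSwap j * π := by
      intro j _
      obtain ⟨p, hp, hpe⟩ := hsurj _
        ((T : Subgroup (Perm (Pts ι ε))).mul_mem (pairSwap_mem_sylow hT i) (pairSwap_mem_sylow hT j))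
        (by rw [map_mul, sign_pairSwap, sign_pairSwap]; rfl)
      have h1 : p * pairing = pairing * p := Subgroup.mem_centralizer_singleton_iff.1 (hT hp)
      rw [← hpe, hπ]
      calc g * pairing * g⁻¹ * (g * p * g⁻¹) = g * (pairing * p) * g⁻¹ := by group
        _ = g * p * g⁻¹ * (g * pairing * g⁻¹) := by rw [← h1]; group
    have hmove : ∀ j, j ≠ i → ∀ z : Pts ι ε, (pairSwap i * pairSwap j : Perm (Pts ι ε)) z ≠ z →
        ∃ c, π z = .inl (i, c) ∨ π z = .inl (j, c) := by
      intro j hj z hz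
      have h2 : (pairSwap i * pairSwap j : Perm (Pts ι ε)) (π z) ≠ π z := fun h => hz (π.injective (by
        rw [← mul_apply π, hcomm j hj, mul_apply]; exact h))
      rcases hx : π z with ⟨k, c⟩ | e
      · by_cases hki : k = i
        · exact ⟨c, Or.inl (by rw [hki])⟩
        by_cases hkj : k = j
        · exact ⟨c, Or.inr (by rw [hkj])⟩
        rw [hx, mul_apply, pairSwap_inl, if_neg hkj, pairSwap_inl, if_neg hki] at h2
        exact absurd rfl h2
      · rw [hx, mul_apply, pairSwap_inr, pairSwap_inr] at h2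
        exact absurd rfl h2
    obtain ⟨j, -, hj⟩ := Finset.exists_mem_notMem_of_card_lt_card
      (s := ({i} : Finset ι)) (t := Finset.univ) (by rw [Finset.card_singleton, Finset.card_univ]; omega)
    obtain ⟨k, -, hk⟩ := Finset.exists_mem_notMem_of_card_lt_card
      (s := ({i, j} : Finset ι)) (t := Finset.univ)
      (by rw [Finset.card_univ]; exact (Finset.card_le_two).trans_lt (by omega))
    simp only [Finset.mem_singleton] at hj
    simp only [Finset.mem_insert, Finset.mem_singleton, not_or] at hk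
    have hz : ∀ l, l ≠ i → (pairSwap i * pairSwap l : Perm (Pts ι ε)) (.inl (i, b)) ≠ .inl (i, b) := by
      intro l hl
      rw [mul_apply, pairSwap_inl, if_neg (Ne.symm hl), pairSwap_inl, if_pos rfl]
      simp
    obtain ⟨c, hc⟩ := hmove j hj _ (hz j hj)
    obtain ⟨d, hd⟩ := hmove k hk.1 _ (hz k hk.1)
    rcases hc with hc | hc
    · exact ⟨c, hc⟩
    rcases hd with hd | hd
    · exact ⟨d, hd⟩
    rw [hc] at hd
    exact absurd (congrArg Prod.fst (Sum.inl.inj hd)) (Ne.symm hk.2)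
  obtain ⟨i₀⟩ : Nonempty ι := Fintype.card_pos_iff.1 (by omega)
  refine self_norm_step hT hι hgC fun p hp => ?_
  rcases Int.units_eq_one_or (sign p) with hs | hs
  · exact ⟨p, hp, hT hp, hT hp, rfl, hg p hp hs⟩
  · have hps : p * pairSwap i₀ ∈ T := (T : Subgroup (Perm (Pts ι ε))).mul_mem hp (pairSwap_mem_sylow hT i₀)
    refine ⟨p * pairSwap i₀, hps, hT hps, hT hp, ?_, hg _ hps (by rw [map_mul, hs, sign_pairSwap]; rfl)⟩
    rw [show (⟨p * pairSwap i₀, hT hps⟩ : cent ι ε) = ⟨p, hT hp⟩ * ⟨pairSwap i₀, pairSwap_mem i₀⟩ from rfl,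
      map_mul, MonoidHom.mem_ker.1 (pairSwap_ker i₀), mul_one]

omit hT

theorem mem_smul_sylow {G : Type*} [Group G] {p : ℕ} (T : Sylow p G) (a x : G) :
    x ∈ a • T ↔ a⁻¹ * x * a ∈ T := by
  show x ∈ (MulAut.conj a • (T : Subgroup G)) ↔ _
  rw [Subgroup.mem_pointwise_smul_iff_inv_smul_mem, ← map_inv]
  simp [MulAut.smul_def]
  rfl

/-- A self-normalizing Sylow subgroup makes all of them self-normalizing. -/
theorem self_of_exists {G : Type*} [Group G] [Finite G] {p : ℕ} [Fact p.Prime] (T : Sylow p G)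
    (hT : ∀ g, (∀ x ∈ T, g * x * g⁻¹ ∈ T) → g ∈ T) (P : Sylow p G) (g : G)
    (hg : ∀ x ∈ P, g * x * g⁻¹ ∈ P) : g ∈ P := by
  obtain ⟨a, rfl⟩ := MulAction.exists_smul_eq G T P
  have key := mem_smul_sylow T a
  rw [key]
  refine hT _ fun x hx => ?_
  have h1 := (key _).1 (hg (a * x * a⁻¹) ((key _).2 (by simpa [mul_assoc] using hx)))
  simpa [mul_assoc] using h1

theorem card_pts (n : ℕ) : Fintype.card (Pts (Fin (n / 2)) (Fin (n % 2))) = n := by
  simp only [Fintype.card_sum, Fintype.card_prod, Fintype.card_fin, Fintype.card_bool]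
  omega

instance (n : ℕ) : Subsingleton (Fin (n % 2)) := Fin.subsingleton_iff_le_one.2 (by omega)

/-- In a finite symmetric group a Sylow 2-subgroup is its own normalizer. -/
theorem normalizer_sylow_perm : ∀ (n : ℕ) (α : Type) [Fintype α] [DecidableEq α], Fintype.card α = n →
    ∀ (P : Sylow 2 (Perm α)) (g : Perm α), (∀ x ∈ P, g * x * g⁻¹ ∈ P) → g ∈ P := by
  intro n
  induction n using Nat.strong_induction_on with
  | _ n ih =>
  intro α _ _ hn
  haveI : Fact (Nat.Prime 2) := ⟨Nat.prime_two⟩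
  by_cases hn2 : n < 2
  · intro P g _
    haveI : Subsingleton α := Fintype.card_le_one_iff_subsingleton.1 (by omega)
    rw [show g = 1 from Subsingleton.elim _ _]
    exact one_mem _
  have hι : ∀ R : Sylow 2 (Perm (Fin (n / 2))), ∀ σ : Perm (Fin (n / 2)),
      (∀ r ∈ R, σ * r * σ⁻¹ ∈ R) → σ ∈ R :=
    ih (n / 2) (by omega) (Fin (n / 2)) (Fintype.card_fin _)
  obtain ⟨T, hT⟩ := exists_sylow_le (ι := Fin (n / 2)) (ε := Fin (n % 2))
  let e : Pts (Fin (n / 2)) (Fin (n % 2)) ≃ α := Fintype.equivOfCardEq ((card_pts n).trans hn.symm)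
  let φ : Perm (Pts (Fin (n / 2)) (Fin (n % 2))) ≃* Perm α := e.permCongrHom
  let T' : Sylow 2 (Perm α) := T.mapSurjective (f := φ.toMonoidHom) φ.surjective
  refine self_of_exists T' fun g hg => ?_
  obtain ⟨h, rfl⟩ := φ.surjective g
  refine ⟨h, self_norm_sym hT hι fun p hp => ?_, rfl⟩
  obtain ⟨q, hq, hqe⟩ := hg (φ p) ⟨p, hp, rfl⟩
  have : q = h * p * h⁻¹ := φ.injective (by rw [map_mul, map_mul, map_inv]; exact hqe)
  exact this ▸ hq

/-- In `A_n`, `n ≥ 6`, a Sylow 2-subgroup is its own normalizer. -/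
theorem normalizer_sylow_alt {n : ℕ} (hn : 6 ≤ n) (S : Sylow 2 (alternatingGroup (Fin n)))
    (g : alternatingGroup (Fin n)) (hg : ∀ x ∈ S, g * x * g⁻¹ ∈ S) : g ∈ S := by
  haveI : Fact (Nat.Prime 2) := ⟨Nat.prime_two⟩
  obtain ⟨T, hT⟩ := exists_sylow_le (ι := Fin (n / 2)) (ε := Fin (n % 2))
  let e : Pts (Fin (n / 2)) (Fin (n % 2)) ≃ Fin n :=
    Fintype.equivOfCardEq ((card_pts n).trans (Fintype.card_fin n).symm)
  let φ : Perm (Pts (Fin (n / 2)) (Fin (n % 2))) ≃* Perm (Fin n) := e.permCongrHom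
  have hsign : ∀ p, sign (φ p) = sign p := fun p => sign_permCongr e p
  let T' : Sylow 2 (Perm (Fin n)) := T.mapSurjective (f := φ.toMonoidHom) φ.surjective
  obtain ⟨S', hS'⟩ := (T'.2.comap_subtype (K := alternatingGroup (Fin n))).exists_le_sylow
  refine self_of_exists S' (fun y hy => hS' ?_) S g hg
  obtain ⟨h, hh⟩ := φ.surjective (y : Perm (Fin n))
  show (y : Perm (Fin n)) ∈ T'
  rw [← hh]
  refine ⟨h, self_norm_alt hT (normalizer_sylow_perm _ _ rfl) (by rw [Fintype.card_fin]; omega)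
    fun p hp hs => ?_, rfl⟩
  -- `S'` consists of the even elements of `T'`
  obtain ⟨U, hU⟩ := (S'.2.map (alternatingGroup (Fin n)).subtype).exists_le_sylow
  obtain ⟨a, ha⟩ := MulAction.exists_smul_eq (Perm (Fin n)) T' U
  have hS'card : ∀ z : alternatingGroup (Fin n), z ∈ S' → (z : Perm (Fin n)) ∈ T' := by
    have hle : (T' : Subgroup (Perm (Fin n))).subgroupOf (alternatingGroup (Fin n)) ≤ S' := hS'
    have hsub : (U : Subgroup (Perm (Fin n))) ⊓ alternatingGroup (Fin n) ≤
        ((T' : Subgroup (Perm (Fin n))) ⊓ alternatingGroup (Fin n)).map (MulAut.conj a).toMonoidHom := by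
      rintro z ⟨hzU, hzA⟩
      rw [← ha] at hzU
      refine ⟨a⁻¹ * z * a, ⟨(mem_smul_sylow T' a z).1 hzU, ?_⟩, by simp [mul_assoc]⟩
      show sign (a⁻¹ * z * a) = 1
      rw [map_mul, map_mul, show sign z = 1 from hzA, mul_one, ← map_mul, inv_mul_cancel, map_one]
    have h1 := Subgroup.card_le_of_le ((le_inf hU (Subgroup.map_subtype_le _)).trans hsub)
    rw [Subgroup.card_subtype, Subgroup.card_map_of_injective (MulAut.conj a).injective,
      ← Subgroup.subgroupOf_map_subtype, Subgroup.card_subtype] at h1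
    intro z hz
    exact (Subgroup.eq_of_le_of_card_ge hle h1).ge hz
  obtain ⟨q, hq, hqe⟩ := hS'card _ (hy ⟨φ p, by rw [mem_alternatingGroup, hsign, hs]⟩ (hS' ⟨p, hp, rfl⟩))
  have : q = h * p * h⁻¹ := φ.injective (by
    rw [map_mul, map_mul, map_inv, hh]; exact hqe)
  exact this ▸ hq

end Cfsg.Agent.AltSelfNorm
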