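/-
The icosahedral group: normalizers of Sylow 2-subgroups and subgroups containing one.
-/
import Cfsg.Agent.EqLemmas
import Mathlib.GroupTheory.Sylow
import Mathlib.GroupTheory.Transfer
import Mathlib.GroupTheory.SpecificGroups.Alternating.Simple

set_option autoImplicit false

namespace Cfsg.Agent.AltSelfNorm

variable {G : Type*} [Group G] [Finite G]

/-- Subgroups of small index in a simple group of order 60 are the whole group. -/
theorem top_of_index_le [IsSimpleGroup G] (hG : Nat.card G = 60) (H : Subgroup G) (h : H.index ≤ 3) :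
    H = ⊤ := by
  rcases (H.normalCore_normal).eq_bot_or_eq_top with h1 | h1
  · exfalso
    rw [Subgroup.normalCore_eq_ker, MonoidHom.ker_eq_bot_iff] at h1
    have h2 := Subgroup.card_dvd_of_injective _ h1
    rw [hG, Nat.card_perm, ← Subgroup.index_eq_card] at h2
    have h3 : H.index.factorial ≤ 6 := by
      have := Nat.factorial_le h
      simpa [Nat.factorial] using this
    exact absurd (Nat.le_of_dvd (Nat.factorial_pos _) h2) (by omega)
  · exact top_le_iff.1 (h1 ▸ H.normalCore_le)

/-- A normal Sylow subgroup does not occur in a simple group of order 60. -/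
theorem index_normalizer_ne_one [IsSimpleGroup G] (hG : Nat.card G = 60) (P : Subgroup G)
    (hP : Nat.card P ≠ 1) (hP' : Nat.card P ≠ 60) :
    (Subgroup.normalizer (P : Set G)).index ≠ 1 := fun h => by
  haveI : P.Normal := Subgroup.normalizer_eq_top_iff.1 (Subgroup.index_eq_one.1 h)
  rcases (inferInstance : P.Normal).eq_bot_or_eq_top with h1 | h1
  · exact hP (h1 ▸ Subgroup.card_bot)
  · exact hP' (by rw [h1, Subgroup.card_top, hG])

/-- A Burnside complement for a Sylow 2-subgroup of order 4 that is its own normalizer. -/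
theorem complement_of_self {p : ℕ} [Fact p.Prime] (S : Sylow p G) (hS : Nat.card (S : Subgroup G) = p ^ 2)
    (hN : Subgroup.normalizer ((S : Subgroup G) : Set G) ≤ S) :
    ∃ K : Subgroup G, K.Normal ∧ Nat.card K * p ^ 2 = Nat.card G := by
  haveI := IsPGroup.isMulCommutative_of_card_eq_prime_sq hS
  have hP : Subgroup.normalizer ((S : Subgroup G) : Set G) ≤ Subgroup.centralizer ((S : Subgroup G) : Set G) :=
    hN.trans (Subgroup.le_centralizer (S : Subgroup G))
  refine ⟨(MonoidHom.transferSylow S hP).ker, inferInstance, ?_⟩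
  rw [← hS]
  exact (MonoidHom.ker_transferSylow_isComplement' S hP).card_mul_card

/-- In a simple group of order 60 the normalizer of a Sylow 2-subgroup has order 12. -/
theorem card_normalizer_five [IsSimpleGroup G] (hG : Nat.card G = 60) (S : Sylow 2 G) :
    Nat.card (S : Subgroup G) = 4 ∧ Nat.card (Subgroup.normalizer ((S : Subgroup G) : Set G)) = 12 := by
  haveI : Fact (Nat.Prime 2) := ⟨Nat.prime_two⟩
  have h60 : (60 : ℕ).factorization 2 = 2 := by
    rw [Nat.factorization_def _ Nat.prime_two, show (60 : ℕ) = 2 ^ 2 * 15 by norm_num,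
      padicValNat.mul (by norm_num) (by norm_num), padicValNat.prime_pow,
      padicValNat.eq_zero_of_not_dvd (by norm_num)]
  have hS : Nat.card (S : Subgroup G) = 4 := by rw [S.card_eq_multiplicity, hG, h60]; norm_num
  have hidx : (S : Subgroup G).index = 15 := by
    have := (S : Subgroup G).card_mul_index
    rw [hG, hS] at this
    omega
  set N := Subgroup.normalizer ((S : Subgroup G) : Set G) with hN
  have hd : N.index ∣ 15 := hidx ▸ Subgroup.index_dvd_of_le Subgroup.le_normalizer
  have h1 : N.index ≠ 1 := index_normalizer_ne_one hG _ (by omega) (by omega)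
  have h3 : N.index ≠ 3 := fun h => h1 (by rw [top_of_index_le hG N (by omega), Subgroup.index_top])
  have h15 : N.index ≠ 15 := by
    intro h
    have hle : N ≤ (S : Subgroup G) := by
      refine (Subgroup.eq_of_le_of_card_ge (Subgroup.le_normalizer) ?_).ge
      have h4 := N.card_mul_index
      rw [hG, h] at h4
      exact (show Nat.card N = 4 by omega).le.trans hS.ge
    obtain ⟨K, hK, hKc⟩ := complement_of_self S (by rw [hS]; norm_num) hle
    rcases hK.eq_bot_or_eq_top with h' | h'
    · rw [h', Subgroup.card_bot, hG] at hKc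
      omega
    · rw [h', Subgroup.card_top, hG] at hKc
      omega
  have : N.index ∈ Nat.divisors 15 := Nat.mem_divisors.2 ⟨hd, by norm_num⟩
  rw [show Nat.divisors 15 = {1, 3, 5, 15} by decide] at this
  simp only [Finset.mem_insert, Finset.mem_singleton] at this
  have hc := N.card_mul_index
  rw [hG] at hc
  exact ⟨hS, by rcases this with h | h | h | h <;> simp only [h] at hc h1 h3 h15 <;> omega⟩

/-- A proper overgroup of a Sylow 2-subgroup contains its normalizer. -/
theorem normalizer_le_five [IsSimpleGroup G] (hG : Nat.card G = 60) (S : Sylow 2 G) (H : Subgroup G)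
    (hSH : (S : Subgroup G) < H) : Subgroup.normalizer ((S : Subgroup G) : Set G) ≤ H := by
  haveI : Fact (Nat.Prime 2) := ⟨Nat.prime_two⟩
  obtain ⟨hS, hN⟩ := card_normalizer_five hG S
  set N := Subgroup.normalizer ((S : Subgroup G) : Set G) with hNdef
  by_contra hNH
  have hI : N ⊓ H = (S : Subgroup G) := by
    have h1 : (S : Subgroup G) ≤ N ⊓ H := le_inf Subgroup.le_normalizer hSH.le
    refine (Subgroup.eq_of_le_of_card_ge h1 ?_).symm
    have h2 := Subgroup.card_dvd_of_le h1
    have h3 := Subgroup.card_dvd_of_le (inf_le_left : N ⊓ H ≤ N)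
    have h4 : Nat.card (N ⊓ H : Subgroup G) ≠ 12 := fun h =>
      hNH ((Subgroup.eq_of_le_of_card_ge (inf_le_left : N ⊓ H ≤ N) (by rw [hN, h])).ge.trans inf_le_right)
    rw [hS] at h2 ⊢
    rw [hN] at h3
    have h5 : Nat.card (N ⊓ H : Subgroup G) ≤ 12 := Nat.le_of_dvd (by norm_num) h3
    interval_cases Nat.card (N ⊓ H : Subgroup G) <;> omega
  let SH : Sylow 2 H := S.subtype hSH.le
  have hSHc : Nat.card (SH : Subgroup H) = 4 := by
    rw [← hS]; exact Nat.card_congr (Subgroup.subgroupOfEquivOfLe hSH.le).toEquiv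
  obtain ⟨K, hK, hKc⟩ := complement_of_self SH (by rw [hSHc]; norm_num) (fun x hx => by
    show (x : G) ∈ (S : Subgroup G)
    rw [← hI]
    refine ⟨Subgroup.mem_normalizer_iff.2 fun y => ?_, x.2⟩
    constructor
    · intro hy
      exact (Subgroup.mem_normalizer_iff.1 hx ⟨y, hSH.le hy⟩).1 hy
    · intro hy
      have hy' : y ∈ H := by
        have h := mul_mem (mul_mem (inv_mem x.2) (hSH.le hy)) x.2
        simpa [mul_assoc] using h
      exact (Subgroup.mem_normalizer_iff.1 hx ⟨y, hy'⟩).2 hy)
  set K' : Subgroup G := K.map H.subtype with hK'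
  have hK'c : Nat.card K' = Nat.card K := Subgroup.card_subtype _ _
  have hHN : H ≤ Subgroup.normalizer (K' : Set G) := by
    intro x hx
    rw [Subgroup.mem_normalizer_iff]
    intro y
    constructor
    · rintro ⟨k, hk, rfl⟩
      exact ⟨⟨x, hx⟩ * k * ⟨x, hx⟩⁻¹, hK.conj_mem k hk _, rfl⟩
    · rintro ⟨k, hk, hke⟩
      refine ⟨⟨x, hx⟩⁻¹ * k * ⟨x, hx⟩, hK.conj_mem' k hk _, ?_⟩
      rw [map_mul, map_mul, map_inv, hke]
      simp [mul_assoc]
  have hHlt : Nat.card H ≠ 60 := fun h =>
    hNH (by rw [Subgroup.eq_top_of_card_eq H (by rw [h, hG])]; exact le_top)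
  have hH4 : Nat.card H ≠ 4 := fun h =>
    hSH.ne (Subgroup.eq_of_le_of_card_ge hSH.le (by rw [hS, h]))
  have hdH : Nat.card H ∣ 60 := hG ▸ H.card_subgroup_dvd_card
  have hkd : Nat.card K ∈ Nat.divisors 15 := Nat.mem_divisors.2 ⟨by
    rw [← hKc, show (60 : ℕ) = 15 * 2 ^ 2 by norm_num] at hdH
    exact Nat.dvd_of_mul_dvd_mul_right (by norm_num) hdH, by norm_num⟩
  rw [show Nat.divisors 15 = {1, 3, 5, 15} by decide] at hkd
  simp only [Finset.mem_insert, Finset.mem_singleton] at hkd
  have hne : (Subgroup.normalizer (K' : Set G)).index ≠ 1 :=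
    index_normalizer_ne_one hG K' (by omega) (by omega)
  have hNK := Subgroup.index_dvd_of_le hHN
  have hHc := H.card_mul_index
  rw [hG, ← hKc] at hHc
  -- `K'` is a Sylow subgroup, so the index of its normalizer is 1 modulo its order
  have hmod : ∀ p : ℕ, p.Prime → Nat.card K' = p → ¬ p ∣ K'.index →
      (Subgroup.normalizer (K' : Set G)).index % p = 1 := by
    intro p hp hc hnd
    haveI : Fact p.Prime := ⟨hp⟩
    let P : Sylow p G := (IsPGroup.of_card (n := 1) (by rw [hc, pow_one])).toSylow hnd
    have h := card_sylow_modEq_one p G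
    rw [P.card_eq_index_normalizer] at h
    exact Eq.trans h (Nat.mod_eq_of_lt hp.one_lt)
  have hK'i := K'.card_mul_index
  rw [hG] at hK'i
  rcases hkd with h | h | h | h
  · omega
  · have := hmod 3 Nat.prime_three (by omega) (by rw [hK'c, h] at hK'i; omega)
    have h5 : H.index = 5 := by rw [h] at hHc; omega
    rcases (Nat.dvd_prime (by norm_num : (5 : ℕ).Prime)).1 (h5 ▸ hNK) with h' | h' <;> omega
  · have := hmod 5 (by norm_num) (by omega) (by rw [hK'c, h] at hK'i; omega)
    have h5 : H.index = 3 := by rw [h] at hHc; omega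
    rcases (Nat.dvd_prime Nat.prime_three).1 (h5 ▸ hNK) with h' | h' <;> omega
  · omega

end Cfsg.Agent.AltSelfNorm
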