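/-
Overgroups of a Sylow 2-subgroup of a symmetric or alternating group: two proper ones with join
everything unless the degree is `2^k + 1`, and a single maximal one in that degree.
-/
import Cfsg.Agent.Lib.AltSelfNorm.Basic
import Cfsg.Agent.Lib.AltSelfNorm.Five
import Cfsg.Agent.Lib.SymOvergroup.Double
import Mathlib.GroupTheory.GroupAction.Jordan

set_option autoImplicit false

namespace Cfsg.Agent.AltSelfNorm

open Equiv Equiv.Perm
open Cfsg.Agent.AltAut (tri tri_apply_fst tri_apply_snd tri_apply_thd tri_apply_ne tri_conj isThreeCycle_tri eq_tri)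
open Cfsg.Agent.SymOvergroup (IsDT exists_threeCycle_of_inter)

/-- `R` lies in exactly one maximal subgroup. -/
def Uniq {G : Type*} [Group G] (R : Subgroup G) : Prop := ∃! M : Subgroup G, IsCoatom M ∧ R ≤ M

theorem not_uniq {G : Type*} [Group G] [Finite G] {R H1 H2 : Subgroup G} (h1 : H1 ≠ ⊤) (h2 : H2 ≠ ⊤)
    (r1 : R ≤ H1) (r2 : R ≤ H2) (h : H1 ⊔ H2 = ⊤) : ¬ Uniq R := by
  rintro ⟨M, ⟨hM, -⟩, hu⟩
  obtain ⟨M1, hM1, hl1⟩ := (eq_top_or_exists_le_coatom H1).resolve_left h1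
  obtain ⟨M2, hM2, hl2⟩ := (eq_top_or_exists_le_coatom H2).resolve_left h2
  have e1 := hu M1 ⟨hM1, r1.trans hl1⟩
  have e2 := hu M2 ⟨hM2, r2.trans hl2⟩
  subst e1; subst e2
  exact hM.1 (top_le_iff.1 (h ▸ sup_le hl1 hl2))

theorem uniq_of {G : Type*} [Group G] {R H : Subgroup G} (hH : H ≠ ⊤) (rH : R ≤ H)
    (h : ∀ M : Subgroup G, R ≤ M → M = ⊤ ∨ M ≤ H) : Uniq R := by
  refine ⟨H, ⟨⟨hH, fun K hK => (h K (rH.trans hK.le)).resolve_right hK.not_ge⟩, rH⟩, ?_⟩
  rintro M ⟨hM, hRM⟩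
  rcases h M hRM with h' | h'
  · exact absurd h' hM.1
  · exact ((hM.le_iff.1 h').resolve_left hH).symm

theorem uniq_map {G G' : Type*} [Group G] [Group G'] (φ : G ≃* G') {R : Subgroup G} (h : Uniq R) :
    Uniq (R.map φ.toMonoidHom) := by
  obtain ⟨M, ⟨hM, hR⟩, hu⟩ := h
  refine ⟨M.map φ.toMonoidHom, ⟨(φ.mapSubgroup.isCoatom_iff M).2 hM, Subgroup.map_mono hR⟩, ?_⟩
  rintro N ⟨hN, hRN⟩
  obtain ⟨N, rfl⟩ := φ.mapSubgroup.surjective N
  rw [hu N ⟨(φ.mapSubgroup.isCoatom_iff N).1 hN, ?_⟩]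
  · rfl
  · exact (Subgroup.map_le_map_iff_of_injective φ.injective).1 hRN

theorem uniq_transfer {G G' : Type*} [Group G] [Group G'] [Finite G] [Finite G'] {p : ℕ} [Fact p.Prime] (φ : G ≃* G')
    (R : Sylow p G) (R' : Sylow p G') (h : Uniq (R : Subgroup G)) : Uniq (R' : Subgroup G') := by
  obtain ⟨a, ha⟩ := MulAction.exists_smul_eq G' (R.mapSurjective (f := φ.toMonoidHom) φ.surjective) R'
  have h1 := uniq_map (MulAut.conj a) (uniq_map φ h)
  rw [← ha]
  exact h1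

variable {α : Type} [Fintype α] [DecidableEq α]

theorem exists_sylow_alt (T : Sylow 2 (Perm α)) :
    ∃ S : Sylow 2 (alternatingGroup α), ∀ z : alternatingGroup α, z ∈ S ↔ (z : Perm α) ∈ T := by
  haveI : Fact (Nat.Prime 2) := ⟨Nat.prime_two⟩
  obtain ⟨S, hS⟩ := (T.2.comap_subtype (K := alternatingGroup α)).exists_le_sylow
  obtain ⟨U, hU⟩ := (S.2.map (alternatingGroup α).subtype).exists_le_sylow
  obtain ⟨a, ha⟩ := MulAction.exists_smul_eq (Perm α) T U
  have hle : (T : Subgroup (Perm α)).subgroupOf (alternatingGroup α) ≤ S := hS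
  have hsub : (U : Subgroup (Perm α)) ⊓ alternatingGroup α ≤
      ((T : Subgroup (Perm α)) ⊓ alternatingGroup α).map (MulAut.conj a).toMonoidHom := by
    rintro z ⟨hzU, hzA⟩
    rw [← ha] at hzU
    refine ⟨a⁻¹ * z * a, ⟨(mem_smul_sylow T a z).1 hzU, ?_⟩, by simp [mul_assoc]⟩
    show sign (a⁻¹ * z * a) = 1
    rw [map_mul, map_mul, show sign z = 1 from hzA, mul_one, ← map_mul, inv_mul_cancel, map_one]
  have h1 := Subgroup.card_le_of_le ((le_inf hU (Subgroup.map_subtype_le _)).trans hsub)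
  rw [Subgroup.card_subtype, Subgroup.card_map_of_injective (MulAut.conj a).injective,
    ← Subgroup.subgroupOf_map_subtype, Subgroup.card_subtype] at h1
  exact ⟨S, fun z => ⟨fun hz => (Subgroup.eq_of_le_of_card_ge hle h1).ge hz, fun hz => hS hz⟩⟩

/-- Two proper overgroups of `T` whose even parts generate the alternating group. -/
theorem not_uniq_both (T : Sylow 2 (Perm α)) {s : Perm α} (hs : s ∈ T) (hs1 : sign s = -1)
    (H1 H2 : Subgroup (Perm α)) (r1 : (T : Subgroup (Perm α)) ≤ H1) (r2 : (T : Subgroup (Perm α)) ≤ H2)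
    (n1 : ¬ alternatingGroup α ≤ H1) (n2 : ¬ alternatingGroup α ≤ H2)
    (h : alternatingGroup α ≤ (H1 ⊓ alternatingGroup α) ⊔ (H2 ⊓ alternatingGroup α)) :
    (∀ S : Sylow 2 (alternatingGroup α), ¬ Uniq (S : Subgroup (alternatingGroup α))) ∧
      ∀ P : Sylow 2 (Perm α), ¬ Uniq (P : Subgroup (Perm α)) := by
  haveI : Fact (Nat.Prime 2) := ⟨Nat.prime_two⟩
  constructor
  · obtain ⟨S₀, hS₀⟩ := exists_sylow_alt T
    intro S hu
    refine not_uniq (H1 := H1.subgroupOf (alternatingGroup α)) (H2 := H2.subgroupOf (alternatingGroup α))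
      (by rwa [Ne, Subgroup.subgroupOf_eq_top]) (by rwa [Ne, Subgroup.subgroupOf_eq_top])
      (fun z hz => r1 ((hS₀ z).1 hz)) (fun z hz => r2 ((hS₀ z).1 hz)) ?_
      (uniq_transfer (MulEquiv.refl _) S S₀ hu)
    refine Subgroup.map_injective (alternatingGroup α).subtype_injective ?_
    rw [Subgroup.map_sup, Subgroup.subgroupOf_map_subtype, Subgroup.subgroupOf_map_subtype, ← MonoidHom.range_eq_map,
      Subgroup.range_subtype]
    exact le_antisymm (sup_le inf_le_right inf_le_right) h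
  · intro P hu
    have hA : alternatingGroup α ≤ H1 ⊔ H2 := h.trans (sup_le_sup inf_le_left inf_le_left)
    refine not_uniq (fun e => n1 (le_top.trans e.ge)) (fun e => n2 (le_top.trans e.ge)) r1 r2 (eq_top_iff.2 fun g _ => ?_)
      (uniq_transfer (MulEquiv.refl _) P T hu)
    rcases Int.units_eq_one_or (sign g) with hg | hg
    · exact hA hg
    · have h1 : g * s ∈ H1 ⊔ H2 := hA (show sign (g * s) = 1 by rw [map_mul, hg, hs1]; rfl)
      simpa [mul_assoc] using mul_mem h1 (inv_mem (Subgroup.mem_sup_left (r1 hs)))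

/-- A group with all three-cycles fixing a point and moving that point contains the alternating group. -/
theorem alt_le_of_stab {J : Subgroup (Perm α)} (x : α)
    (h : ∀ c : Perm α, c.IsThreeCycle → c x = x → c ∈ J) {g₀ : Perm α} (hg₀ : g₀ ∈ J) (hx : g₀ x ≠ x)
    (hn : 4 ≤ Fintype.card α) : alternatingGroup α ≤ J := by
  rw [← closure_three_cycles_eq_alternating, Subgroup.closure_le]
  intro c hc
  obtain ⟨z, -, hz⟩ := Finset.exists_mem_notMem_of_card_lt_card (s := c.support) (t := Finset.univ)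
    (by rw [IsThreeCycle.card_support hc, Finset.card_univ]; omega)
  have hcz : c z = z := Perm.notMem_support.1 hz
  by_cases hzx : z = x
  · exact h c hc (hzx ▸ hcz)
  obtain ⟨g, hg, hgx⟩ : ∃ g ∈ J, g x = z := by
    by_cases hzy : z = g₀ x
    · exact ⟨g₀, hg₀, hzy.symm⟩
    obtain ⟨w, -, hw⟩ := Finset.exists_mem_notMem_of_card_lt_card (s := ({x, g₀ x, z} : Finset α))
      (t := Finset.univ) (by rw [Finset.card_univ]; exact Finset.card_le_three.trans_lt (by omega))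
    simp only [Finset.mem_insert, Finset.mem_singleton, not_or] at hw
    refine ⟨tri (g₀ x) z w * g₀, mul_mem (h _ (isThreeCycle_tri (Ne.symm hzy) (Ne.symm hw.2.1) (Ne.symm hw.2.2))
      (tri_apply_ne (Ne.symm hx) (Ne.symm hzx) (Ne.symm hw.1))) hg₀, ?_⟩
    rw [mul_apply, tri_apply_fst (Ne.symm hzy) (Ne.symm hw.2.2)]
  have hc' : (g⁻¹ * c * g).IsThreeCycle := by
    have e : (g⁻¹ * c * g⁻¹⁻¹).cycleType = c.cycleType := cycleType_conj
    rw [inv_inv] at e
    exact e.trans hc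
  have hc2 : (g⁻¹ * c * g) x = x := by
    rw [mul_apply, mul_apply, hgx, hcz, ← hgx]
    simp
  simpa [mul_assoc] using mul_mem (mul_mem hg (h _ hc' hc2)) (inv_mem hg)

theorem two_trans {M : Subgroup (Perm α)} (x : α)
    (hR : ∀ y z, y ≠ x → z ≠ x → ∃ g ∈ M, g x = x ∧ g y = z) {g₀ : Perm α} (hg₀ : g₀ ∈ M) (hx : g₀ x ≠ x)
    {u v u' v' : α} (huv : u ≠ v) (huv' : u' ≠ v') : ∃ g ∈ M, g u = u' ∧ g v = v' := by
  have htr : ∀ z, ∃ g ∈ M, g x = z := by
    intro z
    by_cases hz : z = x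
    · exact ⟨1, one_mem _, hz.symm⟩
    obtain ⟨g, hg, -, hgy⟩ := hR _ z hx hz
    exact ⟨g * g₀, mul_mem hg hg₀, hgy⟩
  obtain ⟨g1, hg1, e1⟩ := htr u
  obtain ⟨g2, hg2, e2⟩ := htr u'
  have n1 : g1⁻¹ v ≠ x := fun h => huv (by rw [← e1, ← h]; simp)
  have n2 : g2⁻¹ v' ≠ x := fun h => huv' (by rw [← e2, ← h]; simp)
  obtain ⟨g, hg, hgx, hgv⟩ := hR _ _ n1 n2
  refine ⟨g2 * g * g1⁻¹, mul_mem (mul_mem hg2 hg) (inv_mem hg1), ?_, ?_⟩
  · rw [← e1]; simp [mul_apply, hgx, e2]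
  · rw [mul_apply, mul_apply, hgv]
    exact g2.apply_symm_apply v'

end Cfsg.Agent.AltSelfNorm
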