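/-
The three cases (odd degree `2^k + 1`, other odd degrees, even degrees) for the number of maximal
overgroups of a Sylow 2-subgroup.
-/
import Cfsg.Agent.Lib.AltSelfNorm.Overgroups

set_option autoImplicit false

namespace Cfsg.Agent.AltSelfNorm

open Equiv Equiv.Perm
open Cfsg.Agent.AltAut (tri tri_apply_fst tri_apply_snd tri_apply_thd tri_apply_ne tri_conj isThreeCycle_tri eq_tri)
open Cfsg.Agent.SymOvergroup (IsDT exists_threeCycle_of_inter)

/-- The permutations preserving a set. -/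
def setStab {α : Type} (B : Set α) : Subgroup (Perm α) where
  carrier := {g | ∀ y, g y ∈ B ↔ y ∈ B}
  one_mem' y := Iff.rfl
  mul_mem' {g h} hg hh y := (hg (h y)).trans (hh y)
  inv_mem' {g} hg y := by simpa using (hg (g⁻¹ y)).symm

/-- The permutations preserving the fibres of a function. -/
def fibStab {α β : Type} (f : α → β) : Subgroup (Perm α) where
  carrier := {g | ∀ x y, f (g x) = f (g y) ↔ f x = f y}
  one_mem' x y := Iff.rfl
  mul_mem' {g h} hg hh x y := (hg (h x) (h y)).trans (hh x y)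
  inv_mem' {g} hg x y := by simpa using (hg (g⁻¹ x) (g⁻¹ y)).symm

/-- A Sylow 2-subgroup of a symmetric group of degree a power of 2 is transitive. -/
theorem sylow_trans {ι : Type} [Fintype ι] [DecidableEq ι] {j : ℕ} (hj : Fintype.card ι = 2 ^ j)
    (R : Sylow 2 (Perm ι)) (i i' : ι) : ∃ r ∈ R, r i = i' := by
  haveI : Fact (Nat.Prime 2) := ⟨Nat.prime_two⟩
  haveI : NeZero (2 ^ j) := ⟨by positivity⟩
  let e : ι ≃ ZMod (2 ^ j) := Fintype.equivOfCardEq (by rw [hj, ZMod.card])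
  let σ : Perm ι := e.trans ((Equiv.addRight 1).trans e.symm)
  have hpow : ∀ (k : ℕ) (y : ι), (σ ^ k) y = e.symm (e y + k) := by
    intro k
    induction k with
    | zero => intro y; simp
    | succ k ih =>
      intro y
      rw [pow_succ', mul_apply, ih]
      simp [σ, add_assoc]
  have hσ : σ ^ 2 ^ j = 1 := Equiv.ext fun y => by rw [hpow]; simp
  have hp : IsPGroup 2 (Subgroup.zpowers σ) := by
    obtain ⟨n, -, hn⟩ := (Nat.dvd_prime_pow Nat.prime_two).1 (orderOf_dvd_of_pow_eq_one hσ)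
    exact IsPGroup.of_card (n := n) (by rw [Nat.card_zpowers, hn])
  obtain ⟨R', hR'⟩ := hp.exists_le_sylow
  obtain ⟨a, rfl⟩ := MulAction.exists_smul_eq (Perm ι) R' R
  refine ⟨a * σ ^ ((e (a⁻¹ i') - e (a⁻¹ i)).val) * a⁻¹, (mem_smul_sylow R' a _).2 ?_, ?_⟩
  · show _ ∈ (R' : Subgroup (Perm ι))
    simpa [mul_assoc] using hR' (pow_mem (Subgroup.mem_zpowers σ) _)
  · rw [mul_apply, mul_apply, hpow, ZMod.natCast_zmod_val]
    simp

variable {ι ε : Type} [Fintype ι] [DecidableEq ι] [Fintype ε] [DecidableEq ε] [Subsingleton ε]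
variable {T : Sylow 2 (Perm (Pts ι ε))} (hT : (T : Subgroup (Perm (Pts ι ε))) ≤ cent ι ε)
include hT

/-- The image of `T` on the pairs is a Sylow 2-subgroup. -/
theorem exists_image : ∃ R : Sylow 2 (Perm ι), ∀ σ, σ ∈ R ↔ ∃ p, ∃ hp : p ∈ T, pairHom ι ε ⟨p, hT hp⟩ = σ := by
  haveI : Fact (Nat.Prime 2) := ⟨Nat.prime_two⟩
  refine ⟨(T.subtype hT).mapSurjective (pairHom_surjective (ι := ι) (ε := ε)), fun σ => ⟨?_, ?_⟩⟩
  · rintro ⟨p, hp, rfl⟩
    exact ⟨p, hp, rfl⟩
  · rintro ⟨p, hp, rfl⟩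
    exact ⟨⟨p, hT hp⟩, hp, rfl⟩

theorem rest_trans {j : ℕ} (hj : Fintype.card ι = 2 ^ j) (h2 : 2 ≤ Fintype.card ι) (e : ε) (y z : Pts ι ε)
    (hy : y ≠ .inr e) (hz : z ≠ .inr e) : ∃ g ∈ T, sign g = 1 ∧ g (.inr e) = .inr e ∧ g y = z := by
  rcases y with ⟨i, b⟩ | e'
  swap
  · exact absurd (by rw [Subsingleton.elim e' e]) hy
  rcases z with ⟨k, c⟩ | e'
  swap
  · exact absurd (by rw [Subsingleton.elim e' e]) hz
  obtain ⟨R, hR⟩ := exists_image hT
  obtain ⟨r, hr, hri⟩ := sylow_trans hj R i k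
  obtain ⟨p, hp, hpr⟩ := (hR r).1 hr
  obtain ⟨c', hc'⟩ := onPairs_spec (hT hp) i b
  rw [show onPairs p i = k by rw [← hri, ← hpr]; rfl] at hc'
  obtain ⟨q, hq, hqy⟩ : ∃ q ∈ T, q (.inl (i, b)) = .inl (k, c) := by
    by_cases hcc : c' = c
    · exact ⟨p, hp, hcc ▸ hc'⟩
    · refine ⟨pairSwap k * p, mul_mem (pairSwap_mem_sylow hT k) hp, ?_⟩
      rw [mul_apply, hc', pairSwap_inl, if_pos rfl]
      cases c <;> cases c' <;> simp_all
  obtain ⟨l, -, hl⟩ := Finset.exists_mem_notMem_of_card_lt_card (s := ({k} : Finset ι)) (t := Finset.univ)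
    (by rw [Finset.card_singleton, Finset.card_univ]; omega)
  rw [Finset.mem_singleton] at hl
  rcases Int.units_eq_one_or (sign q) with hs | hs
  · exact ⟨q, hq, hs, cent_inr (hT hq) e, hqy⟩
  · have hm : pairSwap l * q ∈ T := mul_mem (pairSwap_mem_sylow hT l) hq
    refine ⟨pairSwap l * q, hm, by rw [map_mul, hs, sign_pairSwap]; rfl, cent_inr (hT hm) e, ?_⟩
    rw [mul_apply, hqy, pairSwap_inl, if_neg (Ne.symm hl)]

theorem uniq_perm {j : ℕ} (hj : Fintype.card ι = 2 ^ j) (h2 : 2 ≤ Fintype.card ι) (e : ε) :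
    Uniq (T : Subgroup (Perm (Pts ι ε))) := by
  obtain ⟨i₀⟩ : Nonempty ι := Fintype.card_pos_iff.1 (by omega)
  refine uniq_of (H := MulAction.stabilizer (Perm (Pts ι ε)) (Sum.inr e : Pts ι ε)) (fun h => ?_)
    (fun p hp => cent_inr (hT hp) e) fun M hM => ?_
  · have := h.ge (Subgroup.mem_top (Equiv.swap (Sum.inr e : Pts ι ε) (.inl (i₀, false))))
    simp [MulAction.mem_stabilizer_iff] at this
  by_cases hfix : ∀ g ∈ M, g (Sum.inr e : Pts ι ε) = .inr e
  · exact Or.inr hfix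
  simp only [not_forall] at hfix
  obtain ⟨g₀, hg₀, hx⟩ := hfix
  refine Or.inl (eq_top_iff.2 ?_)
  rw [← closure_isSwap, Subgroup.closure_le]
  rintro _ ⟨u, v, huv, rfl⟩
  obtain ⟨g, hg, hgu, hgv⟩ := two_trans (M := M) (Sum.inr e : Pts ι ε) (fun y z hy hz =>
    let ⟨g, hg, _, h1, h2⟩ := rest_trans hT hj h2 e y z hy hz; ⟨g, hM hg, h1, h2⟩) hg₀ hx
    (u := .inl (i₀, false)) (v := .inl (i₀, true)) (by simp) huv
  have h := mul_mem (mul_mem hg (hM (pairSwap_mem_sylow hT i₀))) (inv_mem hg)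
  rw [pairSwap, mul_swap_eq_swap_mul, mul_inv_cancel_right, hgu, hgv] at h
  exact h

theorem uniq_alt {j : ℕ} (hj : Fintype.card ι = 2 ^ j) (h2 : 2 ≤ Fintype.card ι) (e : ε)
    (S : Sylow 2 (alternatingGroup (Pts ι ε))) (hS : ∀ z : alternatingGroup (Pts ι ε), z ∈ S ↔ (z : Perm (Pts ι ε)) ∈ T) :
    Uniq (S : Subgroup (alternatingGroup (Pts ι ε))) := by
  haveI : Fact (Nat.Prime 2) := ⟨Nat.prime_two⟩
  obtain ⟨i₀⟩ : Nonempty ι := Fintype.card_pos_iff.1 (by omega)
  refine uniq_of (H := (MulAction.stabilizer (Perm (Pts ι ε)) (Sum.inr e : Pts ι ε)).subgroupOf _) (fun h => ?_)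
    (fun p hp => cent_inr (hT ((hS p).1 hp)) e) fun M hM => ?_
  · rw [Subgroup.subgroupOf_eq_top] at h
    have := h (IsThreeCycle.mem_alternatingGroup
      (isThreeCycle_tri (a := (Sum.inr e : Pts ι ε)) (b := .inl (i₀, false)) (c := .inl (i₀, true))
        (by simp) (by simp) (by simp)))
    rw [MulAction.mem_stabilizer_iff, Perm.smul_def, tri_apply_fst (by simp) (by simp)] at this
    simp at this
  set M' := M.map (alternatingGroup (Pts ι ε)).subtype with hM'
  by_cases hfix : ∀ g ∈ M', g (Sum.inr e : Pts ι ε) = .inr e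
  · exact Or.inr fun m hm => hfix m ⟨m, hm, rfl⟩
  simp only [not_forall] at hfix
  obtain ⟨g₀, hg₀, hx⟩ := hfix
  have hTM : ∀ g ∈ T, sign g = 1 → g ∈ M' := fun g hg hs => ⟨⟨g, hs⟩, hM ((hS _).2 hg), rfl⟩
  have h2t : ∀ u v u' v' : Pts ι ε, u ≠ v → u' ≠ v' → ∃ g ∈ M', g u = u' ∧ g v = v' := fun u v u' v' h h' =>
    two_trans (M := M') (Sum.inr e : Pts ι ε) (fun y z hy hz =>
      let ⟨g, hg, hs, h1, h2⟩ := rest_trans hT hj h2 e y z hy hz; ⟨g, hTM g hg hs, h1, h2⟩) hg₀ hx h h'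
  refine Or.inl ?_
  have hεc : Fintype.card ε = 1 :=
    le_antisymm (Fintype.card_le_one_iff_subsingleton.2 inferInstance) (Fintype.card_pos_iff.2 ⟨e⟩)
  have hcardα : Fintype.card (Pts ι ε) = 2 * Fintype.card ι + 1 := by
    rw [Fintype.card_sum, Fintype.card_prod, Fintype.card_bool, hεc, mul_comm]
  by_cases h4 : 4 ≤ Fintype.card ι
  swap
  · -- degree 5
    have hι : Fintype.card ι = 2 := by
      rcases j with _ | _ | j
      · omega
      · simpa using hj
      · have : 4 ≤ 2 ^ (j + 2) := by rw [pow_add]; nlinarith [Nat.one_le_two_pow (n := j)]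
        omega
    haveI : Nontrivial (Pts ι ε) := Fintype.one_lt_card_iff_nontrivial.1 (by omega)
    have h5 : Nat.card (Pts ι ε) = 5 := by rw [Nat.card_eq_fintype_card, hcardα, hι]
    have h60 : Nat.card (alternatingGroup (Pts ι ε)) = 60 := by rw [nat_card_alternatingGroup, h5]; rfl
    haveI := alternatingGroup.isSimpleGroup (α := Pts ι ε) (by omega)
    refine top_of_index_le h60 M ?_
    have hd4 : 4 ∣ Nat.card M := (card_normalizer_five h60 S).1 ▸ Subgroup.card_dvd_of_le hM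
    have hd5 : 5 ∣ Nat.card M := by
      rw [← Subgroup.card_subtype (alternatingGroup (Pts ι ε)) M, ← hM', ← h5]
      have horb : MulAction.orbit M' (Sum.inr e : Pts ι ε) = Set.univ := by
        refine Set.eq_univ_of_forall fun z => ?_
        obtain ⟨w, hw⟩ := exists_ne z
        obtain ⟨g, hg, hgz, -⟩ := h2t _ _ z w (Ne.symm hx) hw.symm
        exact ⟨⟨g, hg⟩, hgz⟩
      rw [← Set.ncard_univ, ← horb, ← MulAction.index_stabilizer]
      exact Subgroup.index_dvd_card _
    have hd : 20 ∣ Nat.card M := Nat.Coprime.mul_dvd_of_dvd_of_dvd (by norm_num) hd4 hd5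
    have hmul := M.card_mul_index
    rw [h60] at hmul
    obtain ⟨c, hc⟩ := hd
    rw [hc] at hmul
    have hcpos : 0 < c := by
      rcases Nat.eq_zero_or_pos c with rfl | h
      · omega
      · exact h
    nlinarith
  -- degree at least 9: a three-cycle
  obtain ⟨i₁, -, hi₁⟩ := Finset.exists_mem_notMem_of_card_lt_card (s := ({i₀} : Finset ι)) (t := Finset.univ)
    (by rw [Finset.card_singleton, Finset.card_univ]; omega)
  rw [Finset.mem_singleton] at hi₁
  have hdt : ∀ i l : ι, i ≠ l → ((pairSwap i * pairSwap l : Perm (Pts ι ε)) ∈ M' ∧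
      IsDT (pairSwap i * pairSwap l : Perm (Pts ι ε)) ∧ (pairSwap i * pairSwap l : Perm (Pts ι ε)).support =
        {.inl (i, false), .inl (i, true), .inl (l, false), .inl (l, true)}) := by
    intro i l hil
    have hsupp : (pairSwap i * pairSwap l : Perm (Pts ι ε)).support =
        {.inl (i, false), .inl (i, true), .inl (l, false), .inl (l, true)} := by
      ext y
      rw [Perm.mem_support, mul_apply]
      rcases y with ⟨k, b⟩ | e'
      · rw [pairSwap_inl, pairSwap_inl]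
        by_cases hki : k = i <;> by_cases hkl : k = l
        · exact absurd (hki.symm.trans hkl) hil
        · subst hki; cases b <;> simp [hkl]
        · subst hkl; cases b <;> simp [hki]
        · cases b <;> simp [hki, hkl]
      · simp [pairSwap_inr]
    refine ⟨hTM _ (mul_mem (pairSwap_mem_sylow hT i) (pairSwap_mem_sylow hT l))
      (by rw [map_mul, sign_pairSwap, sign_pairSwap]; rfl), ⟨Equiv.ext fun y => ?_, ?_⟩, hsupp⟩
    · rcases y with ⟨k, b⟩ | e'
      · simp only [mul_apply, pairSwap_inl, one_apply]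
        by_cases hki : k = i <;> by_cases hkl : k = l <;> simp [hki, hkl, hil, Ne.symm hil]
      · simp [mul_apply, pairSwap_inr]
    · rw [hsupp, Finset.card_eq_four.mpr ⟨_, _, _, _, by simp, by simp [hil], by simp, by simp, by simp [hil],
        by simp, rfl⟩]
  obtain ⟨hs, hsdt, hssupp⟩ := hdt i₀ i₁ (Ne.symm hi₁)
  obtain ⟨g, hg, hga, -⟩ := h2t (.inl (i₀, false)) (.inr e) (.inr e) (.inl (i₀, false)) (by simp) (by simp)
  set s' := g * (pairSwap i₀ * pairSwap i₁ : Perm (Pts ι ε)) * g⁻¹ with hs'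
  have hs'M : s' ∈ M' := mul_mem (mul_mem hg hs) (inv_mem hg)
  have hxs : (Sum.inr e : Pts ι ε) ∈ s'.support := by
    rw [hs', Perm.support_conj, Finset.mem_map_equiv]
    rw [hssupp, ← hga]
    simp
  obtain ⟨b, c, d, xb, xc, xd, bc, bd, cd, hsupp', -⟩ := (hsdt.conj g).eq_swaps hxs
  rcases b with ⟨ib, bb⟩ | e1
  swap
  · exact absurd (by rw [Subsingleton.elim e1 e]) xb
  rcases c with ⟨ic, cb⟩ | e1
  swap
  · exact absurd (by rw [Subsingleton.elim e1 e]) xc
  rcases d with ⟨id', db⟩ | e1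
  swap
  · exact absurd (by rw [Subsingleton.elim e1 e]) xd
  obtain ⟨i, w, hwi, hone⟩ : ∃ (i : ι) (w : Bool), (Sum.inl (i, w) : Pts ι ε) ∈ s'.support ∧
      ∀ w', (Sum.inl (i, w') : Pts ι ε) ∈ s'.support → w' = w := by
    rw [hsupp']
    simp only [Finset.mem_insert, Finset.mem_singleton, Sum.inl.injEq, Prod.mk.injEq, reduceCtorEq, false_or]
    have key : ∀ a b : Bool, a ≠ b → ∀ c, c = a ∨ c = b := by decide
    by_cases h1 : ib = ic
    · refine ⟨id', db, Or.inr (Or.inr ⟨rfl, rfl⟩), fun w' hw' => ?_⟩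
      have hne : id' ≠ ib := fun h => by
        subst h1; subst h
        rcases key bb cb (fun h => bc (by rw [h])) db with h | h <;> subst h <;> simp at bd cd
      rcases hw' with ⟨h, -⟩ | ⟨h, -⟩ | ⟨-, h⟩
      · exact absurd h hne
      · exact absurd (h.trans h1.symm) hne
      · exact h
    · by_cases h3 : ib = id'
      · refine ⟨ic, cb, Or.inr (Or.inl ⟨rfl, rfl⟩), fun w' hw' => ?_⟩
        rcases hw' with ⟨h, -⟩ | ⟨-, h⟩ | ⟨h, -⟩
        · exact absurd h.symm h1
        · exact h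
        · exact absurd (h.trans h3.symm).symm h1
      · refine ⟨ib, bb, Or.inl ⟨rfl, rfl⟩, fun w' hw' => ?_⟩
        rcases hw' with ⟨-, h⟩ | ⟨h, -⟩ | ⟨h, -⟩
        · exact h
        · exact absurd h h1
        · exact absurd h h3
  obtain ⟨l, -, hl⟩ := Finset.exists_mem_notMem_of_card_lt_card (s := ({ib, ic, id'} : Finset ι))
    (t := Finset.univ) (by rw [Finset.card_univ]; exact Finset.card_le_three.trans_lt (by omega))
  simp only [Finset.mem_insert, Finset.mem_singleton, not_or] at hl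
  have hnl : ∀ v, (Sum.inl (l, v) : Pts ι ε) ∉ s'.support := fun v => by
    rw [hs', hsupp']
    simp [hl.1, hl.2.1, hl.2.2]
  have hil : i ≠ l := fun h => hnl w (h ▸ hwi)
  obtain ⟨ht, htdt, htsupp⟩ := hdt i l hil
  obtain ⟨y, hy, hy3⟩ := exists_threeCycle_of_inter hs'M ht (hsdt.conj g) htdt (a := Sum.inl (i, w)) (by
    ext u
    rw [Finset.mem_inter, Finset.mem_singleton, htsupp]
    simp only [Finset.mem_insert, Finset.mem_singleton]
    constructor
    · rintro ⟨hu, rfl | rfl | rfl | rfl⟩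
      · rw [hone _ hu]
      · rw [hone _ hu]
      · exact absurd hu (hnl _)
      · exact absurd hu (hnl _)
    · rintro rfl
      exact ⟨hwi, by cases w <;> simp⟩)
  have hprim : MulAction.IsPreprimitive M' (Pts ι ε) := by
    refine MulAction.isPreprimitive_of_is_two_pretransitive (MulAction.is_two_pretransitive_iff.2 ?_)
    intro u v u' v' h h'
    obtain ⟨g, hg, h1, h2⟩ := h2t u v u' v' h h'
    exact ⟨⟨g, hg⟩, h1, h2⟩
  have hA := alternatingGroup_le_of_isPreprimitive_of_isThreeCycle_mem hprim hy3 hy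
  refine eq_top_iff.2 fun m _ => ?_
  obtain ⟨m', hm', he⟩ := hA m.2
  exact (Subtype.ext he : m' = m) ▸ hm'

theorem not_uniq_odd (hι : ∀ j, Fintype.card ι ≠ 2 ^ j) (h2 : 2 ≤ Fintype.card ι) (e : ε) :
    (∀ S : Sylow 2 (alternatingGroup (Pts ι ε)), ¬ Uniq (S : Subgroup (alternatingGroup (Pts ι ε)))) ∧
      ∀ P : Sylow 2 (Perm (Pts ι ε)), ¬ Uniq (P : Subgroup (Perm (Pts ι ε))) := by
  haveI : Fact (Nat.Prime 2) := ⟨Nat.prime_two⟩
  obtain ⟨i₀⟩ : Nonempty ι := Fintype.card_pos_iff.1 (by omega)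
  obtain ⟨R, hR⟩ := exists_image hT
  set O := MulAction.orbit (R : Subgroup (Perm ι)) i₀ with hO
  obtain ⟨i₁, hi₁⟩ : ∃ i₁, i₁ ∉ O := by
    by_contra h
    simp only [not_exists, not_not] at h
    obtain ⟨k, hk⟩ := R.2.card_orbit (α := ι) i₀
    refine hι k ?_
    rw [← hk, ← Nat.card_eq_fintype_card, ← Nat.card_univ]
    exact Nat.card_congr (Equiv.setCongr (Set.eq_univ_of_forall h).symm)
  let B : Set (Pts ι ε) := {y | ∀ i b, y = .inl (i, b) → i ∈ O}
  have hB0 : ∀ b, (Sum.inl (i₀, b) : Pts ι ε) ∈ B := fun b i c h => by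
    cases h; exact MulAction.mem_orbit_self _
  have hB1 : ∀ b, (Sum.inl (i₁, b) : Pts ι ε) ∉ B := fun b h => hi₁ (h i₁ b rfl)
  have hBe : (Sum.inr e : Pts ι ε) ∈ B := fun i b h => by simp at h
  have r2 : (T : Subgroup (Perm (Pts ι ε))) ≤ setStab B := by
    intro p hp y
    rcases y with ⟨i, b⟩ | e'
    · obtain ⟨c, hc⟩ := onPairs_spec (hT hp) i b
      have hr : pairHom ι ε ⟨p, hT hp⟩ ∈ R := (hR _).2 ⟨p, hp, rfl⟩
      let g : (R : Subgroup (Perm ι)) := ⟨_, hr⟩
      have hgi : g • i = onPairs p i := rfl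
      have horb : onPairs p i ∈ O ↔ i ∈ O := by
        constructor
        · rintro ⟨r, hr'⟩
          exact ⟨g⁻¹ * r, show (g⁻¹ * r) • i₀ = i by rw [mul_smul, show r • i₀ = onPairs p i from hr', ← hgi, inv_smul_smul]⟩
        · rintro ⟨r, hr'⟩
          exact ⟨g * r, show (g * r) • i₀ = onPairs p i by rw [mul_smul, show r • i₀ = i from hr', hgi]⟩
      rw [hc]
      constructor
      · intro h k d hk
        cases hk
        exact horb.1 (h _ _ rfl)
      · intro h k d hk
        cases hk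
        exact horb.2 (h _ _ rfl)
    · rw [cent_inr (hT hp)]
  have tA : ∀ {a b c : Pts ι ε}, a ≠ b → a ≠ c → b ≠ c → tri a b c ∈ alternatingGroup (Pts ι ε) :=
    fun h1 h2 h3 => IsThreeCycle.mem_alternatingGroup (isThreeCycle_tri h1 h2 h3)
  refine not_uniq_both T (pairSwap_mem_sylow hT i₀) (sign_pairSwap i₀)
    (MulAction.stabilizer (Perm (Pts ι ε)) (Sum.inr e : Pts ι ε)) (setStab B)
    (fun p hp => cent_inr (hT hp) e) r2 (fun h => ?_) (fun h => ?_) ?_
  · have := h (tA (a := Sum.inr e) (b := .inl (i₀, false)) (c := .inl (i₀, true)) (by simp) (by simp) (by simp))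
    rw [MulAction.mem_stabilizer_iff, Perm.smul_def, tri_apply_fst (by simp) (by simp)] at this
    simp at this
  · have hne : i₀ ≠ i₁ := fun h => hi₁ (h ▸ MulAction.mem_orbit_self _)
    have := h (tA (a := Sum.inl (i₀, false)) (b := .inl (i₁, false)) (c := .inl (i₀, true))
      (by simp [hne]) (by simp) (by simp [hne.symm]))
    have h' := (this (.inl (i₀, false))).2 (hB0 _)
    rw [tri_apply_fst (by simp [hne]) (by simp [hne.symm])] at h'
    exact hB1 _ h'
  · set c₀ := tri (Sum.inr e : Pts ι ε) (.inl (i₀, false)) (.inl (i₀, true)) with hc₀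
    refine alt_le_of_stab (Sum.inr e : Pts ι ε) (fun c hc hcx =>
      Subgroup.mem_sup_left ⟨hcx, IsThreeCycle.mem_alternatingGroup hc⟩) (g₀ := c₀)
      (Subgroup.mem_sup_right ⟨fun y => ?_, tA (by simp) (by simp) (by simp)⟩) ?_ ?_
    · by_cases h1 : y = .inr e
      · rw [h1, hc₀, tri_apply_fst (by simp) (by simp)]
        exact iff_of_true (hB0 _) hBe
      by_cases h2 : y = .inl (i₀, false)
      · rw [h2, hc₀, tri_apply_snd]
        exact iff_of_true (hB0 _) (hB0 _)
      by_cases h3 : y = .inl (i₀, true)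
      · rw [h3, hc₀, tri_apply_thd (by simp) (by simp)]
        exact iff_of_true hBe (hB0 _)
      rw [hc₀, tri_apply_ne h1 h2 h3]
    · rw [hc₀, tri_apply_fst (by simp) (by simp)]
      simp
    · rw [Fintype.card_sum, Fintype.card_prod, Fintype.card_bool]
      omega

theorem not_uniq_even [IsEmpty ε] (h3 : 3 ≤ Fintype.card ι) :
    (∀ S : Sylow 2 (alternatingGroup (Pts ι ε)), ¬ Uniq (S : Subgroup (alternatingGroup (Pts ι ε)))) ∧
      ∀ P : Sylow 2 (Perm (Pts ι ε)), ¬ Uniq (P : Subgroup (Perm (Pts ι ε))) := by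
  haveI : Fact (Nat.Prime 2) := ⟨Nat.prime_two⟩
  obtain ⟨R, hR⟩ := exists_image hT
  -- a pairing of the pairs commuting with the image of `T`
  obtain ⟨π, hπ2, hπc, i₀, hi₀⟩ : ∃ π : Perm ι, (∀ i, π (π i) = i) ∧ (∀ r ∈ R, ∀ i, r (π i) = π (r i)) ∧
      ∃ i₀, π i₀ ≠ i₀ := by
    let eq : Pts (Fin (Fintype.card ι / 2)) (Fin (Fintype.card ι % 2)) ≃ ι :=
      Fintype.equivOfCardEq (card_pts (Fintype.card ι))
    obtain ⟨R₁, hR₁⟩ := exists_sylow_le (ι := Fin (Fintype.card ι / 2)) (ε := Fin (Fintype.card ι % 2))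
    obtain ⟨a, ha⟩ := MulAction.exists_smul_eq (Perm ι)
      (R₁.mapSurjective (f := eq.permCongrHom.toMonoidHom) eq.permCongrHom.surjective) R
    set π₁ := eq.permCongrHom (pairing : Perm (Pts (Fin (Fintype.card ι / 2)) (Fin (Fintype.card ι % 2)))) with hπ₁
    refine ⟨a * π₁ * a⁻¹, fun i => ?_, fun r hr i => ?_, a (eq (.inl (⟨0, by omega⟩, false))), ?_⟩
    · have h : (a * π₁ * a⁻¹) * (a * π₁ * a⁻¹) = 1 := by
        have h2 : π₁ * π₁ = 1 := by
          rw [hπ₁, ← map_mul, show (pairing * pairing :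
            Perm (Pts (Fin (Fintype.card ι / 2)) (Fin (Fintype.card ι % 2)))) = 1 from
              Equiv.ext fun x => by rcases x with ⟨k, b⟩ | e' <;> simp, map_one]
        calc a * π₁ * a⁻¹ * (a * π₁ * a⁻¹) = a * (π₁ * π₁) * a⁻¹ := by group
          _ = 1 := by rw [h2, mul_one, mul_inv_cancel]
      exact DFunLike.congr_fun h i
    · rw [← ha, mem_smul_sylow] at hr
      obtain ⟨p, hp, hpe⟩ := hr
      have hc : (a⁻¹ * r * a) * π₁ = π₁ * (a⁻¹ * r * a) := by
        rw [← hpe, hπ₁]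
        exact (map_mul _ _ _).symm.trans ((congrArg _ (Subgroup.mem_centralizer_singleton_iff.1 (hR₁ hp))).trans
          (map_mul _ _ _))
      have h : r * (a * π₁ * a⁻¹) = a * π₁ * a⁻¹ * r := by
        calc r * (a * π₁ * a⁻¹) = a * ((a⁻¹ * r * a) * π₁) * a⁻¹ := by group
          _ = a * π₁ * a⁻¹ * r := by rw [hc]; group
      exact DFunLike.congr_fun h i
    · simp [hπ₁, mul_apply, Equiv.permCongrHom]
  let quad : ι → Finset ι := fun i => {i, π i}
  have hquad : ∀ i k, quad i = quad k ↔ k = i ∨ k = π i := by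
    intro i k
    constructor
    · intro h
      have : k ∈ quad i := by rw [h]; simp [quad]
      simpa [quad] using this
    · rintro (rfl | rfl)
      · rfl
      · simp [quad, hπ2, Finset.pair_comm]
  let f : Pts ι ε → Finset ι := fun x => match x with | .inl (i, _) => quad i | .inr _ => ∅
  have r2 : (T : Subgroup (Perm (Pts ι ε))) ≤ fibStab f := by
    intro p hp x y
    rcases x with ⟨i, b⟩ | e'
    swap
    · exact isEmptyElim e'
    rcases y with ⟨k, c⟩ | e'
    swap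
    · exact isEmptyElim e'
    obtain ⟨b', hb'⟩ := onPairs_spec (hT hp) i b
    obtain ⟨c', hc'⟩ := onPairs_spec (hT hp) k c
    rw [hb', hc']
    show quad (onPairs p i) = quad (onPairs p k) ↔ quad i = quad k
    rw [hquad, hquad]
    have hr : pairHom ι ε ⟨p, hT hp⟩ ∈ R := (hR _).2 ⟨p, hp, rfl⟩
    have h1 : π (onPairs p i) = onPairs p (π i) := (hπc _ hr i).symm
    rw [h1]
    exact or_congr (pairHom ι ε ⟨p, hT hp⟩).injective.eq_iff (pairHom ι ε ⟨p, hT hp⟩).injective.eq_iff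
  obtain ⟨k₀, -, hk₀⟩ := Finset.exists_mem_notMem_of_card_lt_card (s := ({i₀, π i₀} : Finset ι))
    (t := Finset.univ) (by rw [Finset.card_univ]; exact Finset.card_le_two.trans_lt (by omega))
  simp only [Finset.mem_insert, Finset.mem_singleton, not_or] at hk₀
  have tA : ∀ {a b c : Pts ι ε}, a ≠ b → a ≠ c → b ≠ c → tri a b c ∈ alternatingGroup (Pts ι ε) :=
    fun h1 h2 h3 => IsThreeCycle.mem_alternatingGroup (isThreeCycle_tri h1 h2 h3)
  refine not_uniq_both T (pairSwap_mem_sylow hT i₀) (sign_pairSwap i₀) (cent ι ε) (fibStab f) hT r2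
    (fun h => ?_) (fun h => ?_) ?_
  · have := cent_comm (h (tA (a := Sum.inl (i₀, false)) (b := .inl (i₀, true)) (c := .inl (k₀, false))
      (by simp) (by simp [Ne.symm hk₀.1]) (by simp))) (.inl (i₀, false))
    rw [pairing_inl, Bool.not_false, tri_apply_snd, tri_apply_fst (by simp) (by simp), pairing_inl] at this
    simp at this
    exact hk₀.1 this
  · have := (h (tA (a := Sum.inl (i₀, false)) (b := .inl (i₀, true)) (c := .inl (k₀, false))
      (by simp) (by simp [Ne.symm hk₀.1]) (by simp)) (.inl (i₀, false)) (.inl (i₀, true))).2 rfl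
    rw [tri_apply_fst (by simp) (by simp), tri_apply_snd] at this
    rcases (hquad _ _).1 this with h' | h'
    · exact hk₀.1 h'
    · exact hk₀.2 h'
  set J := (cent ι ε ⊓ alternatingGroup (Pts ι ε)) ⊔ (fibStab f ⊓ alternatingGroup (Pts ι ε)) with hJ
  -- all three-cycles inside two pairs
  have hbase : ∀ u v w : Pts ι ε, u ≠ v → u ≠ w → v ≠ w →
      f u = quad i₀ → f v = quad i₀ → f w = quad i₀ → tri u v w ∈ J := by
    intro u v w huv huw hvw hu hv hw
    refine Subgroup.mem_sup_right ⟨?_, tA huv huw hvw⟩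
    have key : ∀ z, f (tri u v w z) = f z := by
      intro z
      by_cases h1 : z = u
      · rw [h1, tri_apply_fst huv hvw, hu, hv]
      by_cases h2 : z = v
      · rw [h2, tri_apply_snd, hv, hw]
      by_cases h3 : z = w
      · rw [h3, tri_apply_thd huw hvw, hu, hw]
      rw [tri_apply_ne h1 h2 h3]
    intro x y
    rw [key, key]
  have hpairs : ∀ i k : ι, i ≠ k → ∀ (u v w : Pts ι ε), u ≠ v → u ≠ w → v ≠ w →
      (∀ z ∈ ({u, v, w} : Finset (Pts ι ε)), ∃ b, z = .inl (i, b) ∨ z = .inl (k, b)) → tri u v w ∈ J := by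
    intro i k hik u v w huv huw hvw hmem
    let σ : Perm ι := Equiv.swap (Equiv.swap i₀ i (π i₀)) k * Equiv.swap i₀ i
    have hne : Equiv.swap i₀ i (π i₀) ≠ i := fun h => hi₀ <| by
      have := congrArg (Equiv.swap i₀ i) h
      simpa using this
    have hσ1 : σ i₀ = i := by
      show Equiv.swap (Equiv.swap i₀ i (π i₀)) k (Equiv.swap i₀ i i₀) = i
      rw [Equiv.swap_apply_left, Equiv.swap_apply_of_ne_of_ne (Ne.symm hne) hik]
    have hσ2 : σ (π i₀) = k := by
      show Equiv.swap (Equiv.swap i₀ i (π i₀)) k (Equiv.swap i₀ i (π i₀)) = k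
      rw [Equiv.swap_apply_left]
    obtain ⟨p, hp, hps, hpe⟩ : ∃ (p : Perm (Pts ι ε)) (hp : p ∈ cent ι ε), sign p = 1 ∧
        pairHom ι ε ⟨p, hp⟩ = σ := by
      obtain ⟨⟨p, hp⟩, hpe⟩ := pairHom_surjective (ι := ι) (ε := ε) σ
      rcases Int.units_eq_one_or (sign p) with hs | hs
      · exact ⟨p, hp, hs, hpe⟩
      · refine ⟨p * pairSwap i₀, mul_mem hp (pairSwap_mem i₀), by rw [map_mul, hs, sign_pairSwap]; rfl, ?_⟩
        rw [show (⟨p * pairSwap i₀, _⟩ : cent ι ε) = ⟨p, hp⟩ * ⟨pairSwap i₀, pairSwap_mem i₀⟩ from rfl,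
          map_mul, MonoidHom.mem_ker.1 (pairSwap_ker i₀), mul_one, hpe]
    have hf : ∀ z ∈ ({u, v, w} : Finset (Pts ι ε)), f (p⁻¹ z) = quad i₀ := by
      intro z hz
      obtain ⟨b, hb⟩ := hmem z hz
      have hm : ∀ m b, f (p⁻¹ (.inl (m, b))) = quad (σ⁻¹ m) := by
        intro m b
        obtain ⟨c, hc⟩ := onPairs_spec (inv_mem hp) m b
        rw [hc]
        show quad (onPairs p⁻¹ m) = _
        congr 1
        rw [← hpe, ← map_inv]
        rfl
      rcases hb with hb | hb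
      · rw [hb, hm, ← hσ1]
        congr 1
        exact σ.symm_apply_apply i₀
      · rw [hb, hm, ← hσ2]
        refine ((congrArg quad (σ.symm_apply_apply (π i₀))).trans ?_)
        exact ((hquad _ _).2 (Or.inr rfl)).symm
    have h := hbase (p⁻¹ u) (p⁻¹ v) (p⁻¹ w) (fun h => huv (p⁻¹.injective h)) (fun h => huw (p⁻¹.injective h))
      (fun h => hvw (p⁻¹.injective h)) (hf u (by simp)) (hf v (by simp)) (hf w (by simp))
    have hpJ : p ∈ J := Subgroup.mem_sup_left ⟨hp, hps⟩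
    have h' := mul_mem (mul_mem hpJ h) (inv_mem hpJ)
    rw [tri_conj] at h'
    simpa using h'
  rw [← closure_three_cycles_eq_alternating, Subgroup.closure_le]
  intro c hc
  obtain ⟨a, ha⟩ : c.support.Nonempty := by
    rw [← Finset.card_pos, IsThreeCycle.card_support hc]; norm_num
  obtain ⟨⟨h1, h2⟩, -, hce⟩ := eq_tri hc (Perm.mem_support.1 ha)
  rw [hce]
  have hac : a ≠ c a := (Perm.mem_support.1 ha).symm
  revert hac h1 h2
  generalize c a = v
  intro h1 h2 hac
  revert h1 h2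
  generalize c v = w
  intro hwv hwa
  rcases a with ⟨i, bi⟩ | e'
  swap
  · exact isEmptyElim e'
  rcases v with ⟨k, bk⟩ | e'
  swap
  · exact isEmptyElim e'
  rcases w with ⟨l, bl⟩ | e'
  swap
  · exact isEmptyElim e'
  have htwo : ∀ i' k' : ι, (i = i' ∨ i = k') → (k = i' ∨ k = k') → (l = i' ∨ l = k') → i' ≠ k' →
      tri (Sum.inl (i, bi) : Pts ι ε) (.inl (k, bk)) (.inl (l, bl)) ∈ J := by
    intro i' k' hi hk hl hne
    refine hpairs i' k' hne _ _ _ hac hwa.symm hwv.symm ?_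
    intro z hz
    simp only [Finset.mem_insert, Finset.mem_singleton] at hz
    rcases hz with rfl | rfl | rfl
    · exact ⟨bi, hi.imp (fun h => by rw [h]) (fun h => by rw [h])⟩
    · exact ⟨bk, hk.imp (fun h => by rw [h]) (fun h => by rw [h])⟩
    · exact ⟨bl, hl.imp (fun h => by rw [h]) (fun h => by rw [h])⟩
  by_cases hik : i = k
  · by_cases hil : i = l
    · subst hik; subst hil
      have key : ∀ a b : Bool, a ≠ b → ∀ c, c = a ∨ c = b := by decide
      rcases key bi bk (fun h => hac (by rw [h])) bl with h | h <;> subst h <;> simp at hwv hwa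
    · exact htwo i l (Or.inl rfl) (Or.inl hik.symm) (Or.inr rfl) hil
  by_cases hkl : k = l
  · exact htwo i k (Or.inl rfl) (Or.inr rfl) (Or.inr hkl.symm) hik
  by_cases hil : i = l
  · exact htwo i k (Or.inl rfl) (Or.inr rfl) (Or.inl hil.symm) hik
  -- three pairs: conjugate into two
  have hA : tri (Sum.inl (i, bi) : Pts ι ε) (.inl (k, bk)) (.inl (k, !bk)) ∈ J := by
    refine hpairs i k hik _ _ _ (by simp [hik]) (by simp [hik]) (by simp) ?_
    intro z hz
    simp only [Finset.mem_insert, Finset.mem_singleton] at hz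
    rcases hz with rfl | rfl | rfl
    exacts [⟨_, Or.inl rfl⟩, ⟨_, Or.inr rfl⟩, ⟨_, Or.inr rfl⟩]
  have hg : tri (Sum.inl (k, !bk) : Pts ι ε) (.inl (l, bl)) (.inl (l, !bl)) ∈ J := by
    refine hpairs k l hkl _ _ _ (by simp [hkl]) (by simp [hkl]) (by simp) ?_
    intro z hz
    simp only [Finset.mem_insert, Finset.mem_singleton] at hz
    rcases hz with rfl | rfl | rfl
    exacts [⟨_, Or.inl rfl⟩, ⟨_, Or.inr rfl⟩, ⟨_, Or.inr rfl⟩]
  have h := mul_mem (mul_mem hg hA) (inv_mem hg)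
  rw [tri_conj, tri_apply_ne (x := Sum.inl (i, bi)) (by simp [hik]) (by simp [hil]) (by simp [hil]),
    tri_apply_ne (x := Sum.inl (k, bk)) (by simp) (by simp [hkl]) (by simp [hkl]),
    tri_apply_fst (by simp [hkl]) (by simp)] at h
  exact h

end Cfsg.Agent.AltSelfNorm
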